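import Cfsg.Agent.Lib.Dichotomy34.Setup
import Cfsg.Agent.Lib.Fusion.Thompson
import Cfsg.Agent.Lib.Involutions.NormalFour
import Cfsg.Agent.Lib.PGroups.MaximalClass

/-!
# The dichotomy theorem modulo the core lemma for strongly embedded subgroups

`M = N(W)` is strongly embedded unless all cores of involution centralizers are trivial.
-/

set_option autoImplicit false
set_option linter.style.haveILetI false

open Cfsg
open Cfsg.Agent.Lib
open Cfsg.Agent.Lib.BenderDeps.Row3109 (CoreOfStronglyEmbedded)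
open Cfsg.Agent.Lib.Involutions.Basic (orderOf_conj_eq)

namespace Cfsg.Agent.Lib.Dichotomy34

universe u

variable {G : Type u} [Group G] [Finite G]

/-- A 2-group with a self-centralizing four-group has 2-rank at most 2. -/
theorem card_le_four {X : Type*} [Group X] [Finite X] (hX : IsPGroup 2 X) {A : Subgroup X}
    (hA : Nat.card ↥A = 4) (hC : Subgroup.centralizer (A : Set X) = A) {E : Subgroup X}
    (hE : IsElementaryAbelian 2 E) : Nat.card ↥E ≤ 4 := by
  haveI : Fact (Nat.Prime 2) := ⟨Nat.prime_two⟩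
  by_contra hlt
  push Not at hlt
  obtain ⟨n, hn⟩ := IsPGroup.iff_card.1 hX
  have h3 : 3 ≤ n := by
    by_contra h
    have h1 : 2 ^ n ≤ 2 ^ 2 := Nat.pow_le_pow_right two_pos (by omega)
    have := Subgroup.card_le_card_group E
    omega
  haveI : Group.IsNilpotent X := hX.isNilpotent
  have hcl := PGroups.class_of_self_centralizing_sq (p := 2) n A hn hA hC
  have hidx := PGroups.index_commutator_of_class (p := 2) n (by omega) hn hcl
  obtain ⟨Q, hQc, hQi⟩ := PGroups.exists_cyclic_index_two n h3 hn hidx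
  have h1 : Nat.card ↥E ≤ 2 * Nat.card ↥(E ⊓ Q : Subgroup X) :=
    card_le_two_mul E Q fun s _ t _ hs ht => (Subgroup.mul_mem_iff_of_index_two hQi).2
      (iff_of_false (fun h => hs (by simpa using inv_mem h)) ht)
  haveI : IsCyclic ↥(E ⊓ Q : Subgroup X) := isCyclic_of_injective
    (Subgroup.inclusion (inf_le_right : E ⊓ Q ≤ Q)) (Subgroup.inclusion_injective _)
  have h2 := Nat.le_of_dvd two_pos
    (PGroups.elemAb_card_dvd_of_isCyclic (PGroups.elemAb_mono hE (inf_le_left : E ⊓ Q ≤ E)))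
  omega

/-- An element of a 2-group has a power of order 4, unless it squares to `1`. -/
theorem exists_pow_four {T : Subgroup G} (hT : IsPGroup 2 T) {y : G} (hy : y ∈ T)
    (hy2 : y ^ 2 ≠ 1) : ∃ y₁ ∈ T, y₁ ^ 4 = 1 ∧ y₁ ^ 2 ≠ 1 := by
  obtain ⟨k, hk⟩ := IsPGroup.iff_orderOf.1 hT ⟨y, hy⟩
  rw [Subgroup.orderOf_mk] at hk
  obtain ⟨j, rfl⟩ : ∃ j, k = j + 2 := by
    rcases k with _ | _ | j
    · exact absurd (by rw [show y = 1 from orderOf_eq_one_iff.1 (by simpa using hk), one_pow]) hy2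
    · exact absurd (by rw [show 2 = orderOf y by simpa using hk.symm, pow_orderOf_eq_one]) hy2
    · exact ⟨j, rfl⟩
  refine ⟨y ^ 2 ^ j, pow_mem hy _, ?_, fun h => ?_⟩
  · rw [← pow_mul, show 2 ^ j * 4 = 2 ^ (j + 2) by ring, ← hk, pow_orderOf_eq_one]
  · rw [← pow_mul, ← orderOf_dvd_iff_pow_eq_one, hk, ← pow_succ,
      Nat.pow_dvd_pow_iff_le_right (by norm_num)] at h
    omega

namespace Ctx

variable (X : Ctx G)

theorem zconj_aux {k : G}
    (hkM : k ∉ X.M) (hb : k * X.z * k⁻¹ ∈ (X.S : Subgroup G))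
    (hno : ∀ B : Subgroup G, B ≤ X.M → IsElementaryAbelian 2 B → 8 ≤ Nat.card ↥B →
      (∀ b ∈ B, b * (k * X.z * k⁻¹) = k * X.z * k⁻¹ * b) → False)
    (hk : ∀ s ∈ (X.S : Subgroup G), s * (k * X.z * k⁻¹) = k * X.z * k⁻¹ * s →
      k⁻¹ * s * k ∈ (X.S : Subgroup G)) : False := by
  haveI : Fact (Nat.Prime 2) := ⟨Nat.prime_two⟩
  set b := k * X.z * k⁻¹ with hbdef
  set z := X.z with hz
  set u := X.u with hu
  obtain ⟨B₀, hB₀S, hB₀, h8₀, hUB₀⟩ := X.exists_B₀
  have hB₀M : B₀ ≤ X.M := hB₀S.trans X.S_le_M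
  have hzz : z * z = 1 := X.zz
  have huu : u * u = 1 := X.uu
  have huinv : u⁻¹ = u := inv_eq_of_mul_eq_one_right huu
  have hzu : z * u = u * z := X.zu
  have hzb : z * b = b * z := (X.hzc b hb).symm
  have hbb : b * b = 1 := by
    calc b * b = k * (z * z) * k⁻¹ := by rw [hbdef]; group
      _ = 1 := by rw [hzz]; group
  have hb1 : b ≠ 1 := fun h => X.hz1 (conj_eq_one_iff.1 h)
  have hbo : orderOf b = 2 := (orderOf_conj_eq k z).trans X.orderOf_z
  have hbM : b ∈ X.M := X.S_le_M hb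
  have hbu : ¬ b * u = u * b := by
    intro h
    obtain ⟨B, hBS, hB, h8, hbB⟩ := X.exists_eight_of_comm hb (by rw [pow_two, hbb]) h
    exact hno B (hBS.trans X.S_le_M) hB h8 fun x hx => PGroups.elemAb_comm hB hx hbB
  have hubu : u * b * u = b * z := by
    have h1 : b * u * b⁻¹ = z * u := X.conj_u_of_ne hb hbu
    calc u * b * u = u * (b * u * b⁻¹) * b := by group
      _ = u * u * z * b := by rw [h1, hzu]; group
      _ = b * z := by rw [huu, one_mul, hzb]
  -- the element `z₁ = k⁻¹ z k` of `S`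
  set z₁ := k⁻¹ * z * k with hz₁
  have hz₁S : z₁ ∈ (X.S : Subgroup G) := hk z X.hzS hzb
  have hz₁u : ¬ z₁ * u = u * z₁ := by
    intro h
    refine hkM ?_
    have hz₁2 : z₁ ^ 2 = 1 := by
      calc z₁ ^ 2 = k⁻¹ * (z * z) * k := by rw [hz₁, pow_two]; group
        _ = 1 := by rw [hzz]; group
    have hz₁1 : z₁ ≠ 1 := fun h1 => X.hz1 (by
      calc z = k * z₁ * k⁻¹ := by rw [hz₁]; group
        _ = 1 := by rw [h1]; group)
    obtain ⟨B, hBS, hB, h8, hz₁B⟩ := X.exists_eight_of_comm hz₁S hz₁2 h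
    have hCz₁ := X.centralizer_le (orderOf_eq_prime hz₁2 hz₁1) (X.S_le_M hz₁S)
      (hBS.trans X.S_le_M) hB h8 fun x hx => PGroups.elemAb_comm hB hx hz₁B
    exact X.mem_M_inv hB₀M hB₀ h8₀ fun x hx => hCz₁ (Subgroup.mem_centralizer_singleton_iff.2 (by
      have h1 : x * z = z * x := PGroups.elemAb_comm hB₀ hx (hUB₀ X.hzU)
      simpa [hz₁] using comm_comm h1 k⁻¹))
  have huz₁ : u * z₁ * u = z * z₁ := by
    have h1 : z₁ * u * z₁⁻¹ = z * u := X.conj_u_of_ne hz₁S hz₁u
    calc u * z₁ * u = u * (z₁ * u * z₁⁻¹) * z₁ := by group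
      _ = u * u * z * z₁ := by rw [h1, hzu]; group
      _ = z * z₁ := by rw [huu, one_mul]
  set u' := k * u * k⁻¹ with hu'
  have hu'z : u' * z * u'⁻¹ = b * z := by
    calc u' * z * u'⁻¹ = k * (u * z₁ * u⁻¹) * k⁻¹ := by rw [hu', hz₁]; group
      _ = k * (z * z₁) * k⁻¹ := by rw [huinv, huz₁]
      _ = b * z := by rw [hbdef, hz₁]; group
  have hu'b : u' * b * u'⁻¹ = b := by
    calc u' * b * u'⁻¹ = k * (u * z * u⁻¹) * k⁻¹ := by rw [hu', hbdef]; group
      _ = b := by rw [← X.zu, mul_inv_cancel_right]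
  set d := u * u' with hd
  have hubz : u * (b * z) * u = b := by
    calc u * (b * z) * u = u * b * u * (u⁻¹ * z * u) := by group
      _ = b * z * z := by rw [hubu, mul_assoc u⁻¹, X.zu, inv_mul_cancel_left]
      _ = b := by rw [mul_assoc, hzz, mul_one]
  have hdz : d * z * d⁻¹ = b := by
    calc d * z * d⁻¹ = u * (u' * z * u'⁻¹) * u⁻¹ := by rw [hd]; group
      _ = b := by rw [hu'z, huinv, hubz]
  have hdb : d * b * d⁻¹ = b * z := by
    calc d * b * d⁻¹ = u * (u' * b * u'⁻¹) * u⁻¹ := by rw [hd]; group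
      _ = b * z := by rw [hu'b, huinv, hubu]
  have hdbz : d * (b * z) * d⁻¹ = z := by
    calc d * (b * z) * d⁻¹ = d * b * d⁻¹ * (d * z * d⁻¹) := by group
      _ = z := by rw [hdb, hdz, ← hzb, mul_assoc, hbb, mul_one]
  -- the four-group `E = ⟨z, b⟩`
  have hbzne : b ∉ Subgroup.zpowers z := by
    intro h
    obtain ⟨i, hi⟩ := Subgroup.mem_zpowers_iff.1 h
    refine hbu ?_
    rw [← hi]
    exact ((show Commute z u from X.zu).zpow_left i).eq
  obtain ⟨hEel, hEcard⟩ := FTDeps.Row3110.card_ge_double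
    (PGroups.elemAb_zpowers (show z ^ 2 = 1 by rw [pow_two, hzz]))
    (show b ^ 2 = 1 by rw [pow_two, hbb]) hbzne fun y hy => by
      obtain ⟨i, rfl⟩ := Subgroup.mem_zpowers_iff.1 hy
      exact (show Commute z b from hzb).zpow_left i
  rw [Nat.card_zpowers, X.orderOf_z] at hEcard
  set E := Subgroup.zpowers z ⊔ Subgroup.zpowers b with hE
  set T := (X.S : Subgroup G) ⊓ Subgroup.centralizer ({b} : Set G) with hT
  have hET : E ≤ T := sup_le
    (Subgroup.zpowers_le.2 ⟨X.hzS, Subgroup.mem_centralizer_singleton_iff.2 hzb⟩)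
    (Subgroup.zpowers_le.2 ⟨hb, Subgroup.mem_centralizer_singleton_iff.2 rfl⟩)
  have hEM : E ≤ X.M := hET.trans (inf_le_left.trans X.S_le_M)
  have hsmall : ∀ w ∈ T, w ^ 2 = 1 → w ∈ E := by
    intro w hw hw2
    by_contra hwE
    obtain ⟨hel, hc⟩ := FTDeps.Row3110.card_ge_double hEel hw2 hwE fun e he => by
      have : E ≤ Subgroup.centralizer ({w} : Set G) := sup_le
        (Subgroup.zpowers_le.2 (Subgroup.mem_centralizer_singleton_iff.2 (X.hzc w hw.1).symm))
        (Subgroup.zpowers_le.2 (Subgroup.mem_centralizer_singleton_iff.2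
          (Subgroup.mem_centralizer_singleton_iff.1 hw.2).symm))
      exact Subgroup.mem_centralizer_singleton_iff.1 (this he)
    refine hno _ (sup_le hEM (Subgroup.zpowers_le.2 (X.S_le_M hw.1))) hel (by omega) ?_
    exact fun x hx => PGroups.elemAb_comm hel hx
      (Subgroup.mem_sup_left (Subgroup.mem_sup_right (Subgroup.mem_zpowers b)))
  have hE4 : Nat.card ↥E ≤ 4 := by
    by_contra h
    obtain ⟨m, hm⟩ := PGroups.elemAb_card_eq_pow hEel
    have h3 : 3 ≤ m := by
      by_contra h'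
      have : 2 ^ m ≤ 2 ^ 2 := Nat.pow_le_pow_right two_pos (by omega)
      omega
    refine hno E hEM hEel (hm ▸ le_trans (by norm_num) (Nat.pow_le_pow_right two_pos h3)) ?_
    exact fun x hx => PGroups.elemAb_comm hEel hx (Subgroup.mem_sup_right (Subgroup.mem_zpowers b))
  obtain ⟨y, hyT, hy4, hy2⟩ : ∃ y ∈ T, y ^ 4 = 1 ∧ y ^ 2 ≠ 1 := by
    by_cases hexp : ∀ y ∈ T, y ^ 2 = 1
    · exfalso
      have hTE : T = E := le_antisymm (fun y hy => hsmall y hy (hexp y hy)) hET
      have hES : E ≤ (X.S : Subgroup G) := hET.trans inf_le_left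
      have hcent : Subgroup.centralizer
          (E.subgroupOf (X.S : Subgroup G) : Set ↥(X.S : Subgroup G)) = E.subgroupOf (X.S : Subgroup G) := by
        refine le_antisymm (fun s hs => ?_) fun s hs => Subgroup.mem_centralizer_iff.2 fun e he =>
          Subtype.ext (PGroups.elemAb_comm hEel he hs)
        have h1 := Subgroup.mem_centralizer_iff.1 hs ⟨b, hb⟩
          (Subgroup.mem_sup_right (Subgroup.mem_zpowers b))
        show (s : G) ∈ E
        rw [← hTE]
        exact ⟨s.2, Subgroup.mem_centralizer_singleton_iff.2 (congrArg Subtype.val h1).symm⟩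
      have := card_le_four X.S.2 (A := E.subgroupOf (X.S : Subgroup G))
        (by rw [Nat.card_congr (Subgroup.subgroupOfEquivOfLe hES).toEquiv]; omega) hcent
        (PGroups.elemAb_subgroupOf hB₀ (X.S : Subgroup G))
      rw [Nat.card_congr (Subgroup.subgroupOfEquivOfLe hB₀S).toEquiv] at this
      omega
    · push Not at hexp
      obtain ⟨y, hy, hy2⟩ := hexp
      exact exists_pow_four (X.S.2.to_le inf_le_left) hy hy2
  have hwT : y ^ 2 ∈ T := pow_mem hyT 2
  have hwE : y ^ 2 ∈ E := hsmall _ hwT (by rw [← pow_mul]; exact hy4)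
  have hyz : Commute y z := X.hzc y hyT.1
  have hyb : Commute y b := Subgroup.mem_centralizer_singleton_iff.1 hyT.2
  have hybz : Commute y (b * z) := hyb.mul_right hyz
  -- the elements of `E`
  have hEcases : y ^ 2 = z ∨ y ^ 2 = b ∨ y ^ 2 = b * z := by
    have hn : Subgroup.zpowers z ≤ Subgroup.normalizer (Subgroup.zpowers b : Set G) :=
      (Subgroup.zpowers_le.2 (Subgroup.mem_centralizer_iff.2 fun w hw => by
        obtain ⟨i, rfl⟩ := Subgroup.mem_zpowers_iff.1 hw
        exact ((show Commute b z from hzb.symm).zpow_left i).eq)).trans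
        (Subgroup.centralizer_le_normalizer _)
    obtain ⟨p, hp, q, hq, hpq⟩ := Coprime.exists_mul_of_mem_sup hn (x := y ^ 2) hwE
    have hinv : ∀ {x w : G}, x * x = 1 → w ∈ Subgroup.zpowers x → w = 1 ∨ w = x := by
      intro x w hx hw
      obtain ⟨i, rfl⟩ := Subgroup.mem_zpowers_iff.1 hw
      rcases Int.even_or_odd i with ⟨m, rfl⟩ | ⟨m, rfl⟩
      · exact Or.inl (by rw [← two_mul, zpow_mul, zpow_two, hx, one_zpow])
      · exact Or.inr (by rw [zpow_add, zpow_mul, zpow_two, hx, one_zpow, one_mul, zpow_one])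
    rcases hinv hzz hp with rfl | rfl <;> rcases hinv hbb hq with rfl | rfl
    · exact absurd (by simpa using hpq) hy2
    · exact Or.inr (Or.inl (by simpa using hpq))
    · exact Or.inl (by simpa using hpq)
    · exact Or.inr (Or.inr (hpq.trans hzb))
  -- a square root of `b` in `C(z)`
  obtain ⟨v, hv2, hv4, hvz⟩ : ∃ v : G, v * v = b ∧ v ^ 4 = 1 ∧ Commute v z := by
    rcases hEcases with h | h | h
    · refine ⟨d * y * d⁻¹, ?_, by rw [conj_pow, hy4]; group, ?_⟩
      · calc d * y * d⁻¹ * (d * y * d⁻¹) = d * y ^ 2 * d⁻¹ := by rw [pow_two]; group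
          _ = b := by rw [h, hdz]
      · have := comm_comm hybz d
        rwa [hdbz] at this
    · exact ⟨y, by rw [← pow_two, h], hy4, hyz⟩
    · refine ⟨u * y * u⁻¹, ?_, by rw [conj_pow, hy4]; group, ?_⟩
      · calc u * y * u⁻¹ * (u * y * u⁻¹) = u * y ^ 2 * u⁻¹ := by rw [pow_two]; group
          _ = b := by rw [h, huinv, hubz]
      · have := comm_comm hyz u
        rwa [← X.zu, mul_inv_cancel_right] at this
  have hCz : Subgroup.centralizer ({z} : Set G) ≤ X.M :=
    X.centralizer_le X.orderOf_z (X.S_le_M X.hzS) hB₀M hB₀ h8₀ fun x hx =>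
      PGroups.elemAb_comm hB₀ hx (hUB₀ X.hzU)
  obtain ⟨h, hh, hle⟩ := (IsSylIn.of_sylow X.S (C := Subgroup.centralizer ({z} : Set G))
    fun s hs => Subgroup.mem_centralizer_singleton_iff.2 (X.hzc s hs)).exists_conj_le
    (H := Subgroup.zpowers v) (by
      obtain ⟨i, -, hi⟩ := (Nat.dvd_prime_pow Nat.prime_two).1
        (show orderOf v ∣ 2 ^ 2 from orderOf_dvd_of_pow_eq_one (by simpa using hv4))
      exact IsPGroup.of_card (n := i) (by rw [Nat.card_zpowers, hi]))
    (Subgroup.zpowers_le.2 (Subgroup.mem_centralizer_singleton_iff.2 hvz))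
  have hv' : h * v * h⁻¹ ∈ (X.S : Subgroup G) := hle ⟨v, Subgroup.mem_zpowers v, rfl⟩
  have hbu'' : h * b * h⁻¹ ∈ Subgroup.centralizer ({u} : Set G) := by
    have := X.sq_comm_u hv'
    rwa [show h * v * h⁻¹ * (h * v * h⁻¹) = h * (v * v) * h⁻¹ by group, hv2] at this
  have hbS'' : h * b * h⁻¹ ∈ (X.S : Subgroup G) := by
    have := mul_mem hv' hv'
    rwa [show h * v * h⁻¹ * (h * v * h⁻¹) = h * (v * v) * h⁻¹ by group, hv2] at this
  obtain ⟨B, hBS, hB, h8, hbB⟩ := X.exists_eight_of_comm hbS''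
    (by rw [conj_pow, pow_two, hbb]; group) (Subgroup.mem_centralizer_singleton_iff.1 hbu'')
  refine hno (B.map (MulAut.conj h⁻¹).toMonoidHom) ?_ (PGroups.elemAb_conj h⁻¹ hB)
    (h8.trans (Subgroup.card_map_of_injective (MulAut.conj h⁻¹).injective).ge) ?_
  · rintro _ ⟨x, hx, rfl⟩
    simpa using mul_mem (mul_mem (inv_mem (hCz hh)) (X.S_le_M (hBS hx))) (hCz hh)
  · rintro _ ⟨x, hx, rfl⟩
    simpa [mul_assoc] using comm_comm (PGroups.elemAb_comm hB hx hbB) h⁻¹

theorem z_conj {k : G} (hk : k * X.z * k⁻¹ ∈ X.M) : k ∈ X.M := by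
  haveI : Fact (Nat.Prime 2) := ⟨Nat.prime_two⟩
  obtain ⟨B₀, hB₀S, hB₀, h8₀, hUB₀⟩ := X.exists_B₀
  have hB₀M : B₀ ≤ X.M := hB₀S.trans X.S_le_M
  have hB₀z : ∀ b ∈ B₀, b * X.z = X.z * b := fun b hb => PGroups.elemAb_comm hB₀ hb (hUB₀ X.hzU)
  obtain ⟨m, hm, hmS⟩ := X.exists_conj_invol ((orderOf_conj_eq k X.z).trans X.orderOf_z) hk
  suffices h : m * k ∈ X.M by simpa using mul_mem (inv_mem hm) h
  by_contra hkM
  set k' := m * k with hk'
  have hb : k' * X.z * k'⁻¹ ∈ (X.S : Subgroup G) := by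
    simpa [hk', mul_assoc] using hmS
  have hno : ∀ B : Subgroup G, B ≤ X.M → IsElementaryAbelian 2 B → 8 ≤ Nat.card ↥B →
      (∀ b ∈ B, b * (k' * X.z * k'⁻¹) = k' * X.z * k'⁻¹ * b) → False := by
    intro B hBM hB h8 hBb
    have hC := X.centralizer_le ((orderOf_conj_eq k' X.z).trans X.orderOf_z) (X.S_le_M hb)
      hBM hB h8 hBb
    exact hkM (X.mem_M hB₀M hB₀ h8₀ fun b hb =>
      hC (mem_centralizer_conj (Subgroup.mem_centralizer_singleton_iff.2 (hB₀z b hb))))
  have hCz : Subgroup.centralizer ({X.z} : Set G) ≤ X.M :=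
    X.centralizer_le X.orderOf_z (X.S_le_M X.hzS) hB₀M hB₀ h8₀ hB₀z
  obtain ⟨h, hh, hle⟩ := (IsSylIn.of_sylow X.S (C := Subgroup.centralizer ({X.z} : Set G))
    fun s hs => Subgroup.mem_centralizer_singleton_iff.2 (X.hzc s hs)).exists_conj_le
    (H := ((X.S : Subgroup G) ⊓ Subgroup.centralizer ({k' * X.z * k'⁻¹} : Set G)).map
      (MulAut.conj k'⁻¹).toMonoidHom) ((X.S.2.to_le inf_le_left).map _) (by
        rintro _ ⟨s, hs, rfl⟩
        simpa [mul_assoc] using mem_centralizer_conj (g := k'⁻¹) hs.2)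
  have hzh : h⁻¹ * X.z * h = X.z := by
    rw [mul_assoc, ← Subgroup.mem_centralizer_singleton_iff.1 hh, inv_mul_cancel_left]
  have hbeq : k' * h⁻¹ * X.z * (k' * h⁻¹)⁻¹ = k' * X.z * k'⁻¹ := by
    calc k' * h⁻¹ * X.z * (k' * h⁻¹)⁻¹ = k' * (h⁻¹ * X.z * h) * k'⁻¹ := by group
      _ = _ := by rw [hzh]
  refine X.zconj_aux (k := k' * h⁻¹) ?_ (by rwa [hbeq]) (by rwa [hbeq]) ?_
  · intro hc
    exact hkM (by simpa using mul_mem hc (hCz hh))
  · intro s hs hsb
    rw [hbeq] at hsb
    have := hle ⟨k'⁻¹ * s * k', ⟨s, ⟨hs, Subgroup.mem_centralizer_singleton_iff.2 hsb⟩,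
      by simp [mul_assoc]⟩, rfl⟩
    simpa [mul_assoc] using this

/-- The involutions of `M` are conjugate into `S ⊓ C(u)`, by transfer. -/
theorem exists_conj_comm (hG : ∀ N : Subgroup G, N.index ≠ 2) {t : G} (ht : orderOf t = 2) :
    ∃ g : G, g * t * g⁻¹ ∈ (X.S : Subgroup G) ∧
      g * t * g⁻¹ * X.u = X.u * (g * t * g⁻¹) := by
  haveI : Fact (Nat.Prime 2) := ⟨Nat.prime_two⟩
  set D := (X.S : Subgroup G) ⊓ Subgroup.centralizer ({X.u} : Set G) with hD
  by_cases hSu : (X.S : Subgroup G) ≤ Subgroup.centralizer ({X.u} : Set G)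
  · obtain ⟨g, hg⟩ := Involutions.StronglyEmbedded.exists_conj_mem_of_sylow
      (H := (X.S : Subgroup G)) (P := X.S) le_rfl ht
    exact ⟨g, hg, Subgroup.mem_centralizer_singleton_iff.1 (hSu hg)⟩
  · obtain ⟨p, hp, hpu⟩ := SetLike.not_le_iff_exists.1 hSu
    have hidx : D.relIndex (X.S : Subgroup G) = 2 := by
      refine Subgroup.index_eq_two_iff.2 ⟨⟨p⁻¹, inv_mem hp⟩, fun s => ?_⟩
      by_cases hs : (s : G) ∈ Subgroup.centralizer ({X.u} : Set G)
      · refine Or.inr ⟨⟨s.2, hs⟩, fun h => hpu ?_⟩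
        have h1 := mul_mem (inv_mem hs) h.2
        simpa using inv_mem h1
      · refine Or.inl ⟨?_, fun h => hs h.2⟩
        refine ⟨(X.S : Subgroup G).mul_mem s.2 ((X.S : Subgroup G).inv_mem hp), ?_⟩
        have := X.inv_mul_mem (inv_mem s.2) (inv_mem hp) (fun h => hs (by simpa using inv_mem h))
          (fun h => hpu (by simpa using inv_mem h))
        rwa [inv_inv] at this
    obtain ⟨g, hg⟩ := Fusion.Thompson.exists_conj_mem_maximal X.S D inf_le_left hidx hG t ht
    exact ⟨g, hg.1, Subgroup.mem_centralizer_singleton_iff.1 hg.2⟩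

/-- `M` contains the centralizers of its involutions. -/
theorem centralizer_le_M (hG : ∀ N : Subgroup G, N.index ≠ 2) {t : G} (ht : orderOf t = 2)
    (htM : t ∈ X.M) : Subgroup.centralizer ({t} : Set G) ≤ X.M := by
  obtain ⟨m, hm, hmS⟩ := X.exists_conj_invol ht htM
  set t' := m * t * m⁻¹ with ht'
  have hto : orderOf t' = 2 := (orderOf_conj_eq m t).trans ht
  obtain ⟨g, hgS, hgu⟩ := X.exists_conj_comm hG hto
  set a := g * t' * g⁻¹ with ha
  have hao : orderOf a = 2 := (orderOf_conj_eq g t').trans hto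
  obtain ⟨B, hBS, hB, h8, haB⟩ :=
    X.exists_eight_of_comm hgS (by rw [← hao, pow_orderOf_eq_one]) hgu
  have hCa := X.centralizer_le hao (X.S_le_M hgS) (hBS.trans X.S_le_M) hB h8
    fun b hb => PGroups.elemAb_comm hB hb haB
  have hgM : g ∈ X.M := X.z_conj (hCa (mem_centralizer_conj
    (Subgroup.mem_centralizer_singleton_iff.2 (X.hzc _ hmS).symm)))
  intro y hy
  have h1 := hCa (mem_centralizer_conj (g := g) (mem_centralizer_conj (g := m) hy))
  have := mul_mem (mul_mem (inv_mem (mul_mem hgM hm)) h1) (mul_mem hgM hm)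
  simpa [mul_assoc] using this

theorem conj_mem (hG : ∀ N : Subgroup G, N.index ≠ 2) {t : G} (ht : orderOf t = 2)
    (htM : t ∈ X.M) {g : G} (hg : g * t * g⁻¹ ∈ X.M) : g ∈ X.M := by
  obtain ⟨m, hm, hmS⟩ := X.exists_conj_invol ht htM
  have h1 : g * m⁻¹ ∈ X.M := by
    refine X.z_conj (X.centralizer_le_M hG ((orderOf_conj_eq g t).trans ht) hg ?_)
    have := mem_centralizer_conj (g := g * m⁻¹) (a := m * t * m⁻¹) (y := X.z)
      (Subgroup.mem_centralizer_singleton_iff.2 (X.hzc _ hmS).symm)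
    rwa [show g * m⁻¹ * (m * t * m⁻¹) * (g * m⁻¹)⁻¹ = g * t * g⁻¹ by group] at this
  simpa using mul_mem h1 hm

include X in
/-- If `W = 1` then all cores of involution centralizers are trivial. -/
theorem cores_eq_bot_of_W (hG : ∀ N : Subgroup G, N.index ≠ 2) (hW : X.W = ⊥) {t : G}
    (ht : orderOf t = 2) : centralizerPPrimeCore 2 t = ⊥ := by
  haveI : Fact (Nat.Prime 2) := ⟨Nat.prime_two⟩
  · obtain ⟨g, hgS, hgu⟩ := X.exists_conj_comm hG ht
    have hgo : orderOf (g * t * g⁻¹) = 2 := (orderOf_conj_eq g t).trans ht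
    obtain ⟨B, hBS, hB, h8, hB'⟩ :=
      X.exists_eight_of_comm hgS (by rw [← hgo, pow_orderOf_eq_one]) hgu
    have h1 := (X.W_inf (hBS.trans X.S_le_M) hB h8 hB'
      (fun h => by rw [h, orderOf_one] at hgo; omega)).1
    rw [hW, le_bot_iff, Balance.centralizerPPrimeCore_conj] at h1
    exact (Subgroup.map_eq_bot_iff_of_injective _ (MulAut.conj g).injective).1 h1

include X in
theorem cores_eq_bot (hBender : CoreOfStronglyEmbedded.{u}) (hG : ∀ N : Subgroup G, N.index ≠ 2)
    (hO : Cfsg.oddCore G = ⊥) {t : G} (ht : orderOf t = 2) :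
    centralizerPPrimeCore 2 t = ⊥ := by
  haveI : Fact (Nat.Prime 2) := ⟨Nat.prime_two⟩
  by_cases hW : X.W = ⊥
  · exact X.cores_eq_bot_of_W hG hW ht
  · exfalso
    refine hW ?_
    have hMtop : X.M ≠ ⊤ := by
      intro h
      haveI : X.W.Normal := Subgroup.normalizer_eq_top_iff.1 h
      exact hW (le_bot_iff.1 (hO ▸ Cores.le_oddCore X.W_odd))
    have heven : Even (Nat.card ↥X.M) := by
      have h1 := Subgroup.orderOf_dvd_natCard X.M (X.S_le_M X.hzS)
      rw [X.orderOf_z] at h1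
      exact even_iff_two_dvd.2 h1
    have hSE := Involutions.StronglyEmbedded.of_forall_conj hMtop heven
      fun t htM ht g hg => X.conj_mem hG ht htM hg
    haveI : (X.W.subgroupOf X.M).Normal :=
      (Subgroup.normal_subgroupOf_iff_le_normalizer Subgroup.le_normalizer).2 le_rfl
    have hle : X.W.subgroupOf X.M ≤ Cfsg.oddCore ↥X.M := Cores.le_oddCore (by
      rw [Nat.card_congr (Subgroup.subgroupOfEquivOfLe Subgroup.le_normalizer).toEquiv]
      exact X.W_odd)
    have h2 := (Subgroup.map_mono hle).trans (hBender G X.M hSE)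
    rw [hO, le_bot_iff, Subgroup.map_subgroupOf_eq_of_le Subgroup.le_normalizer] at h2
    exact h2

end Ctx

/-- Existence of the data, for constrained centralizers of involutions and a given Sylow subgroup. -/
theorem exists_ctx_of (h3 : ¬ Cfsg.PRankLE 2 2 G)
    (hlocal : ∀ t : G, orderOf t = 2 → pLayer 2 ↥(Subgroup.centralizer ({t} : Set G)) = ⊥ ∧
      Cfsg.IsPConstrained 2 ↥(Subgroup.centralizer ({t} : Set G))) (S : Sylow 2 G) :
    ∃ X : Ctx G, X.S = S := by
  haveI : Fact (Nat.Prime 2) := ⟨Nat.prime_two⟩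
  obtain ⟨E, hES, hE, h8⟩ := BenderDeps.FourConnected.exists_eight h3 S
  by_cases hcase : ∃ z ∈ (S : Subgroup G), ∃ c ∈ (S : Subgroup G), z ^ 2 = 1 ∧ z ≠ 1 ∧ c ^ 2 = 1 ∧
      c ≠ 1 ∧ c ≠ z ∧ (∀ s ∈ (S : Subgroup G), s * z = z * s) ∧
      ∀ s ∈ (S : Subgroup G), s * c = c * s
  · obtain ⟨z, hz, c, hc', hz2, hz1, hc2, hc1, hcz, hzc, hcc⟩ := hcase
    have hn : c ∉ Subgroup.zpowers z := by
      intro h
      obtain ⟨k, hk⟩ := Subgroup.mem_zpowers_iff.1 h
      have hz2' : z ^ (2 : ℤ) = 1 := by rw [zpow_two, ← pow_two, hz2]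
      rcases Int.even_or_odd k with ⟨m, rfl⟩ | ⟨m, rfl⟩
      · exact hc1 (by rw [← hk, ← two_mul, zpow_mul, hz2', one_zpow])
      · exact hcz (by rw [← hk, zpow_add, zpow_mul, hz2', one_zpow, one_mul, zpow_one])
    obtain ⟨hel, hge⟩ := FTDeps.Row3110.card_ge_double (PGroups.elemAb_zpowers hz2) hc2 hn
      fun b hb => by
        obtain ⟨k, rfl⟩ := Subgroup.mem_zpowers_iff.1 hb
        exact ((show Commute z c from hcc z hz).zpow_left k).eq
    rw [Nat.card_zpowers, orderOf_eq_prime hz2 hz1] at hge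
    have hzc1 : z * c ≠ 1 := fun h => hcz (by
      calc c = z ^ 2 * c := by rw [hz2, one_mul]
        _ = z * (z * c) := by rw [pow_two, mul_assoc]
        _ = z := by rw [h, mul_one])
    have hle : Nat.card ↥(Subgroup.zpowers z ⊔ Subgroup.zpowers c : Subgroup G) = 4 := by
      have h2 : orderOf (z * c) = 2 := PGroups.elemAb_orderOf hel
        (mul_mem (Subgroup.mem_sup_left (Subgroup.mem_zpowers z))
          (Subgroup.mem_sup_right (Subgroup.mem_zpowers c))) hzc1
      rw [show Subgroup.zpowers z ⊔ Subgroup.zpowers c = Subgroup.closure ({z, c} : Set G) by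
          rw [Subgroup.zpowers_eq_closure, Subgroup.zpowers_eq_closure, ← Subgroup.closure_union,
            Set.singleton_union],
        Involutions.Basic.card_closure_pair (orderOf_eq_prime hz2 hz1) (orderOf_eq_prime hc2 hc1),
        h2]
    exact ⟨{ S := S, U := Subgroup.zpowers z ⊔ Subgroup.zpowers c, z := z, u := c
             hL := fun t ht => (hlocal t ht).1, hcon := fun t ht => (hlocal t ht).2
             hUS := sup_le (Subgroup.zpowers_le.2 hz) (Subgroup.zpowers_le.2 hc')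
             hU := hel, hU4 := hle
             hUn := fun s hs x hx => by
               have hxc : x ∈ Subgroup.centralizer ({s} : Set G) := (sup_le
                 (Subgroup.zpowers_le.2 (Subgroup.mem_centralizer_singleton_iff.2 (hzc s hs).symm))
                 (Subgroup.zpowers_le.2 (Subgroup.mem_centralizer_singleton_iff.2 (hcc s hs).symm))
                 : Subgroup.zpowers z ⊔ Subgroup.zpowers c ≤ _) hx
               rw [← Subgroup.mem_centralizer_singleton_iff.1 hxc, mul_inv_cancel_right]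
               exact hx
             hzU := Subgroup.mem_sup_left (Subgroup.mem_zpowers z)
             huU := Subgroup.mem_sup_right (Subgroup.mem_zpowers c)
             hz1 := hz1, hu1 := hc1, huz := hcz, hzc := hzc, halt := Or.inl hcc
             h8 := ⟨E, hES, hE, h8⟩ }, rfl⟩
  · obtain ⟨U₀, hUn, hU4, hU2⟩ := Involutions.NormalFour.exists_normal_four S.2
      (E.subgroupOf (S : Subgroup G))
      (by rw [Nat.card_congr (Subgroup.subgroupOfEquivOfLe hES).toEquiv]; exact h8)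
      fun e he => PGroups.elemAb_pow (PGroups.elemAb_subgroupOf hE _) he
    haveI := hUn
    have hne : U₀ ≠ ⊥ := by
      intro h
      rw [h, Subgroup.card_bot] at hU4
      omega
    obtain ⟨⟨z₀, hz₀⟩, hzne⟩ := Subgroup.ne_bot_iff_exists_ne_one.1
      (PGroups.normal_inf_center_ne_bot S.2 U₀ hne)
    obtain ⟨hz₀U, hz₀c⟩ := Subgroup.mem_inf.1 hz₀
    have hz1 : (z₀ : G) ≠ 1 := fun h => hzne (Subtype.ext (Subtype.ext h))
    have hzc : ∀ s ∈ (S : Subgroup G), s * (z₀ : G) = z₀ * s := fun s hs =>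
      congrArg Subtype.val (Subgroup.mem_center_iff.1 hz₀c ⟨s, hs⟩)
    have hz2 : (z₀ : G) ^ 2 = 1 := by exact_mod_cast congrArg Subtype.val (hU2 z₀ hz₀U)
    set U := U₀.map (S : Subgroup G).subtype with hU
    have hcardU : Nat.card ↥U = 4 := by
      rw [hU, Subgroup.card_map_of_injective (f := (S : Subgroup G).subtype)
        (Subgroup.subtype_injective _), hU4]
    obtain ⟨u, huU, hu⟩ : ∃ u ∈ U, ¬ (u = 1 ∨ u = (z₀ : G)) := by
      by_contra! hall
      have h1 : (U : Set G) ⊆ {1, (z₀ : G)} := fun x hx => by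
        rcases hall x hx with h | h
        · exact Or.inl h
        · exact Or.inr h
      have h2 := (Set.ncard_le_ncard h1).trans (Set.ncard_insert_le _ _)
      rw [Set.ncard_singleton, ← Nat.card_coe_set_eq, SetLike.coe_sort_coe, hcardU] at h2
      omega
    push Not at hu
    exact ⟨{ S := S, U := U, z := (z₀ : G), u := u
             hL := fun t ht => (hlocal t ht).1, hcon := fun t ht => (hlocal t ht).2
             hUS := Subgroup.map_subtype_le _
             hU := PGroups.elemAb_map _ (PGroups.elemAb_mk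
               (fun a ha b hb => Involutions.NormalFour.comm_of_exp_two hU2 ha hb) hU2)
             hU4 := hcardU
             hUn := fun s hs x hx => by
               obtain ⟨y, hy, rfl⟩ := hx
               exact ⟨⟨s, hs⟩ * y * ⟨s, hs⟩⁻¹, hUn.conj_mem y hy _, rfl⟩
             hzU := ⟨z₀, hz₀U, rfl⟩, huU := huU
             hz1 := hz1, hu1 := hu.1, huz := hu.2, hzc := hzc
             halt := Or.inr fun c hc' hc2 hc1 hcc => by
               by_contra hne'
               exact hcase ⟨_, z₀.2, c, hc', hz2, hz1, hc2, hc1, hne', hzc, hcc⟩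
             h8 := ⟨E, hES, hE, h8⟩ }, rfl⟩

/-- Existence of the data without components. -/
theorem exists_ctx (h3 : ¬ Cfsg.PRankLE 2 2 G) (hc : ¬ Cfsg.IsComponentType G) :
    Nonempty (Ctx G) :=
  let ⟨X, _⟩ := exists_ctx_of h3 (fun t ht =>
    BenderDeps.Consumers.constrained_of_not_hasComponent fun h => hc ⟨t, ht, h⟩) (Classical.arbitrary _)
  ⟨X⟩

/-- The dichotomy conclusion from trivial cores. -/
theorem Ctx.isCharacteristicTwoType_of_cores (X : Ctx G)
    (hcores : ∀ t : G, orderOf t = 2 → centralizerPPrimeCore 2 t = ⊥) :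
    Cfsg.IsCharacteristicTwoType G := by
  haveI : Fact (Nat.Prime 2) := ⟨Nat.prime_two⟩
  refine ⟨?_, fun T hT hT1 => Balance.centralizer_pCore_le_local (fun t ht => ?_) hT hT1⟩
  · have h1 := Subgroup.orderOf_dvd_natCard X.U X.hzU
    rw [X.orderOf_z] at h1
    exact even_iff_two_dvd.2 (h1.trans (Subgroup.card_subgroup_dvd_card X.U))
  · have hcore : pPrimeCore 2 ↥(Subgroup.centralizer ({t} : Set G)) = ⊥ := by
      have h0 := hcores t ht
      unfold centralizerPPrimeCore at h0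
      exact (Subgroup.map_eq_bot_iff_of_injective _ (Subgroup.subtype_injective _)).1 h0
    exact PLocal.Constrained.charP_transport
      ((QuotientGroup.quotientMulEquivOfEq hcore).trans QuotientGroup.quotientBot)
      (PSolvable.isPConstrained_iff.1 (X.hcon t ht))

/-- **The dichotomy theorem**, modulo the core lemma for strongly embedded subgroups. -/
theorem isCharacteristicTwoType (hBender : CoreOfStronglyEmbedded.{u})
    (hG : ∀ N : Subgroup G, N.index ≠ 2) (hO : Cfsg.oddCore G = ⊥)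
    (h3 : ¬ Cfsg.PRankLE 2 2 G) (hc : ¬ Cfsg.IsComponentType G) :
    Cfsg.IsCharacteristicTwoType G := by
  haveI : Fact (Nat.Prime 2) := ⟨Nat.prime_two⟩
  obtain ⟨X⟩ := exists_ctx h3 hc
  exact X.isCharacteristicTwoType_of_cores fun t ht => X.cores_eq_bot hBender hG hO ht

/-- The statement of the dichotomy theorem, modulo the core lemma. -/
theorem dichotomy (hBender : CoreOfStronglyEmbedded.{u})
    (hO2 : ∀ N : Subgroup G, N.Normal → N.index ≠ 2) (hO : Cfsg.oddCore G = ⊥) :
    Cfsg.PRankLE 2 2 G ∨ Cfsg.IsComponentType G ∨ Cfsg.IsCharacteristicTwoType G := by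
  by_cases h3 : Cfsg.PRankLE 2 2 G
  · exact Or.inl h3
  by_cases hc : Cfsg.IsComponentType G
  · exact Or.inr (Or.inl hc)
  exact Or.inr (Or.inr (isCharacteristicTwoType hBender
    (fun N hN => hO2 N (Subgroup.normal_of_index_eq_two hN) hN) hO h3 hc))

end Cfsg.Agent.Lib.Dichotomy34
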