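import Cfsg.Agent.Lib.FTDeps.Row3110
import Cfsg.Agent.Lib.Coprime.Glauberman
import Cfsg.Agent.Lib.Coprime.Action
import Cfsg.Agent.Lib.Involutions.StronglyEmbedded
import Cfsg.Agent.S1957

/-!
# Local facts about a 2-constrained centralizer

`opTwo C` is `O_{2',2}(C)` inside `G`.  For a Sylow 2-subgroup `T` of a 2-constrained `C`:
an element of `T` inducing commutators into a central `{1, u}` on `T ⊓ opTwo C` lies in `opTwo C`,
and `C` is `O(C)` times the normalizer of `T ⊓ opTwo C`.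
-/

set_option autoImplicit false
set_option linter.style.haveILetI false

open Cfsg
open Cfsg.Agent.Lib

namespace Cfsg.Agent.Lib.Dichotomy34

universe u

variable {G : Type u} [Group G] [Finite G]

/-- `O_{2',2}(C)` as a subgroup of `G`. -/
def opTwo (C : Subgroup G) : Subgroup G := (pPrimePCore 2 ↥C).map C.subtype

/-- `T` is a Sylow 2-subgroup of `C`. -/
structure IsSylIn (T C : Subgroup G) : Prop where
  le : T ≤ C
  isP : IsPGroup 2 T
  max : ∀ T' : Subgroup G, IsPGroup 2 T' → T ≤ T' → T' ≤ C → T' = T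

theorem opTwo_le (C : Subgroup G) : opTwo C ≤ C := Subgroup.map_subtype_le _

theorem mem_opTwo {C : Subgroup G} {x : G} (hx : x ∈ C) :
    x ∈ opTwo C ↔
      QuotientGroup.mk' (pPrimeCore 2 ↥C) ⟨x, hx⟩ ∈ pCore 2 (↥C ⧸ pPrimeCore 2 ↥C) := by
  constructor
  · rintro ⟨y, hy, rfl⟩
    exact hy
  · intro h
    exact ⟨⟨x, hx⟩, h, rfl⟩

theorem le_normalizer_opTwo (C : Subgroup G) : C ≤ Subgroup.normalizer (opTwo C : Set G) := by
  intro g hg
  haveI : (pPrimePCore 2 ↥C).Normal := by unfold pPrimePCore; infer_instance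
  have key : ∀ h ∈ C, ∀ x ∈ opTwo C, h * x * h⁻¹ ∈ opTwo C := by
    rintro h hh _ ⟨x, hx, rfl⟩
    exact ⟨⟨h, hh⟩ * x * ⟨h, hh⟩⁻¹, Subgroup.Normal.conj_mem inferInstance x hx _, rfl⟩
  refine Subgroup.mem_normalizer_iff.2 fun x => ⟨key g hg x, fun hx => ?_⟩
  simpa [mul_assoc] using key g⁻¹ (inv_mem hg) _ hx


namespace IsSylIn

variable {C T : Subgroup G} (hT : IsSylIn T C)
include hT

theorem exists_cover {q : ↥C ⧸ pPrimeCore 2 ↥C} (hq : q ∈ pCore 2 (↥C ⧸ pPrimeCore 2 ↥C)) :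
    ∃ y : ↥C, (y : G) ∈ T ∧ QuotientGroup.mk' (pPrimeCore 2 ↥C) y = q := by
  haveI : Fact (Nat.Prime 2) := ⟨Nat.prime_two⟩
  obtain ⟨Q, hQ⟩ := (hT.isP.of_equiv (Subgroup.subgroupOfEquivOfLe hT.le).symm).exists_le_sylow
  have hQT : ∀ y : ↥C, y ∈ (Q : Subgroup ↥C) → (y : G) ∈ T := by
    intro y hy
    have h1 : T ≤ (Q : Subgroup ↥C).map C.subtype := fun t ht => ⟨⟨t, hT.le ht⟩, hQ ht, rfl⟩
    rw [← hT.max _ (Q.2.map _) h1 (Subgroup.map_subtype_le _)]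
    exact ⟨y, hy, rfl⟩
  set π := QuotientGroup.mk' (pPrimeCore 2 ↥C)
  set Qb := Q.mapSurjective (f := π) (QuotientGroup.mk'_surjective _)
  have h2 : (Qb : Subgroup _) ⊔ pCore 2 (↥C ⧸ pPrimeCore 2 ↥C) = Qb :=
    Qb.is_maximal' (Qb.2.to_sup_of_normal_right PSolvable.isPGroup_pCore) le_sup_left
  have h3 : q ∈ (Qb : Subgroup _) := h2 ▸ Subgroup.mem_sup_right hq
  obtain ⟨y, hy, rfl⟩ := h3
  exact ⟨y, hQT y hy, rfl⟩

/-- An element of `T` inducing commutators into a central `{1, u}` on `T ⊓ opTwo C`. -/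
theorem mem_opTwo_of_stab (hcon : IsPConstrained 2 ↥C) {u : G} (huC : u ∈ C) (hu : u ^ 2 = 1)
    (huc : ∀ c ∈ C, c * u = u * c) {y : G} (hy : y ∈ T)
    (h : ∀ x ∈ T ⊓ opTwo C, y * x * y⁻¹ = x ∨ y * x * y⁻¹ = x * u) : y ∈ opTwo C := by
  haveI : Fact (Nat.Prime 2) := ⟨Nat.prime_two⟩
  set π := QuotientGroup.mk' (pPrimeCore 2 ↥C) with hπ
  rw [mem_opTwo (hT.le hy)]
  refine S1957.mem_pCore_of_stab (PSolvable.isPConstrained_iff.1 hcon) (π ⟨u, huC⟩) ?_ ?_ _ ?_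
  · rw [Subgroup.mem_center_iff]
    intro g
    obtain ⟨c, rfl⟩ := QuotientGroup.mk'_surjective _ g
    rw [hπ, ← map_mul, ← map_mul]
    exact congrArg _ (Subtype.ext (huc c c.2))
  · rw [← map_pow, show (⟨u, huC⟩ : ↥C) ^ 2 = 1 from Subtype.ext hu, map_one]
  · intro q hq
    obtain ⟨x, hxT, rfl⟩ := hT.exists_cover hq
    have hx : (x : G) ∈ T ⊓ opTwo C := ⟨hxT, (mem_opTwo x.2).2 hq⟩
    rw [hπ, ← map_inv, ← map_mul, ← map_mul, ← map_mul]
    rcases h x hx with h1 | h1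
    · exact Or.inl (congrArg _ (Subtype.ext h1))
    · exact Or.inr (congrArg _ (Subtype.ext h1))

/-- An element of `T` centralizing `T ⊓ opTwo C` lies in it. -/
theorem mem_opTwo_of_centralizes (hcon : IsPConstrained 2 ↥C) {y : G} (hy : y ∈ T)
    (h : ∀ x ∈ T ⊓ opTwo C, y * x = x * y) : y ∈ opTwo C :=
  hT.mem_opTwo_of_stab hcon (u := 1) C.one_mem (one_pow 2) (fun c _ => by simp) hy fun x hx =>
    Or.inl (mul_inv_eq_iff_eq_mul.2 (h x hx))

/-- The Frattini argument. -/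
theorem le_core_sup_normalizer :
    C ≤ (pPrimeCore 2 ↥C).map C.subtype ⊔
      (C ⊓ Subgroup.normalizer ((T ⊓ opTwo C : Subgroup G) : Set G)) := by
  haveI : Fact (Nat.Prime 2) := ⟨Nat.prime_two⟩
  set L := pPrimePCore 2 ↥C with hL
  haveI : L.Normal := by rw [hL]; unfold pPrimePCore; infer_instance
  set PC := (T ⊓ opTwo C).subgroupOf C with hPC
  have hPL : PC ≤ L := by
    intro x hx
    obtain ⟨y, hy, hyx⟩ := hx.2
    rwa [← Subtype.ext hyx]
  have hPp : IsPGroup 2 (PC.subgroupOf L) :=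
    (((hT.isP.to_le inf_le_left).comap_of_injective C.subtype C.subtype_injective)).comap_of_injective
      L.subtype L.subtype_injective
  obtain ⟨P', hP'⟩ := hPp.exists_le_sylow
  have hsup : L ≤ pPrimeCore 2 ↥C ⊔ PC := by
    intro l hl
    obtain ⟨y, hyT, hy⟩ := hT.exists_cover (q := QuotientGroup.mk' (pPrimeCore 2 ↥C) l) hl
    have h1 : l * y⁻¹ ∈ pPrimeCore 2 ↥C := by
      rw [← QuotientGroup.eq_one_iff]
      show QuotientGroup.mk' (pPrimeCore 2 ↥C) (l * y⁻¹) = 1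
      rw [map_mul, map_inv, hy, mul_inv_cancel]
    have h2 : y ∈ PC := by
      refine ⟨hyT, (mem_opTwo y.2).2 ?_⟩
      rw [Subtype.coe_eta, hy]
      exact hl
    have := mul_mem (Subgroup.mem_sup_left h1 : l * y⁻¹ ∈ pPrimeCore 2 ↥C ⊔ PC)
      (Subgroup.mem_sup_right h2)
    simpa using this
  -- the Sylow subgroup of `L` above `PC` is `PC`
  have hP'e : (P' : Subgroup ↥L).map L.subtype = PC := by
    refine le_antisymm ?_ fun x hx => ⟨⟨x, hPL hx⟩, hP' hx, rfl⟩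
    rintro _ ⟨x, hx, rfl⟩
    obtain ⟨y, hy, o, ho, hoy⟩ := Coprime.exists_mul_of_mem_sup
      (A := PC) (K := pPrimeCore 2 ↥C)
      (le_top.trans (Subgroup.normalizer_eq_top_iff.2 inferInstance).ge)
      (sup_comm (pPrimeCore 2 ↥C) PC ▸ hsup x.2)
    have h1 : IsPGroup 2 ((P' : Subgroup ↥L).map L.subtype) := P'.2.map _
    have h2 : o ∈ (P' : Subgroup ↥L).map L.subtype := by
      have hy' : y ∈ (P' : Subgroup ↥L).map L.subtype := ⟨⟨y, hPL hy⟩, hP' hy, rfl⟩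
      have := mul_mem (inv_mem hy')
        (show (x : ↥C) ∈ (P' : Subgroup ↥L).map L.subtype from ⟨x, hx, rfl⟩)
      rwa [hoy, inv_mul_cancel_left] at this
    have h3 : o = 1 := by
      obtain ⟨k, hk⟩ := IsPGroup.iff_orderOf.1 h1 ⟨o, h2⟩
      rw [Subgroup.orderOf_mk] at hk
      refine orderOf_eq_one_iff.1 (Nat.eq_one_of_dvd_coprimes ?_ dvd_rfl
        (Subgroup.orderOf_dvd_natCard _ ho))
      rw [hk]
      exact ((Cores.pPrimeCore_coprime (G := ↥C) 2).symm).pow_left k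
    show (x : ↥C) ∈ PC
    rw [hoy, h3, mul_one]
    exact hy
  intro g hg
  have h1 : (⟨g, hg⟩ : ↥C) ∈ pPrimeCore 2 ↥C ⊔ Subgroup.normalizer (PC : Set ↥C) := by
    have h2 : (⟨g, hg⟩ : ↥C) ∈ Subgroup.normalizer (((P' : Subgroup ↥L).map L.subtype : Subgroup ↥C) : Set ↥C) ⊔ L := by
      rw [Sylow.normalizer_sup_eq_top P']
      exact Subgroup.mem_top _
    rw [hP'e] at h2
    refine sup_le le_sup_right (hsup.trans (sup_le le_sup_left ?_)) h2
    exact Subgroup.le_normalizer.trans le_sup_right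
  have h2 := Subgroup.mem_map_of_mem C.subtype h1
  rw [Subgroup.map_sup] at h2
  have hle : ∀ {A B : Subgroup G}, A ≤ B → ∀ {y : G}, y ∈ A → y ∈ B := fun h _ hy => h hy
  refine hle (sup_le le_sup_left (le_trans ?_ le_sup_right)) h2
  refine le_inf (Subgroup.map_subtype_le _) ((Subgroup.le_normalizer_map _).trans (le_of_eq ?_))
  rw [hPC, Subgroup.map_subgroupOf_eq_of_le (inf_le_left.trans hT.le)]

end IsSylIn

/-- **The inversion principle.** A `b`-invariant odd subgroup of `C(x)`, for `b ∈ O_{2',2}(C(x))`,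
is its fixed points times a piece of `O(C(x))`. -/
theorem exists_fixed_of_opTwo {x b : G} {X : Subgroup G}
    (hXC : X ≤ Subgroup.centralizer ({x} : Set G)) (hXodd : Odd (Nat.card ↥X))
    (hb : b ∈ opTwo (Subgroup.centralizer ({x} : Set G))) (hb2 : b ^ 2 = 1)
    (hbX : b ∈ Subgroup.normalizer (X : Set G)) {y : G} (hy : y ∈ X) :
    ∃ n ∈ X ⊓ centralizerPPrimeCore 2 x, n * y ∈ Subgroup.centralizer ({b} : Set G) := by
  haveI : Fact (Nat.Prime 2) := ⟨Nat.prime_two⟩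
  set C := Subgroup.centralizer ({x} : Set G) with hC
  have hbC : b ∈ C := opTwo_le C hb
  have hcomm : b * y * b⁻¹ * y⁻¹ ∈ X ⊓ centralizerPPrimeCore 2 x := by
    have h1 : b * y * b⁻¹ * y⁻¹ ∈ X :=
      mul_mem ((Subgroup.mem_normalizer_iff.1 hbX y).1 hy) (inv_mem hy)
    refine ⟨h1, ⟨⟨_, hXC h1⟩, ?_, rfl⟩⟩
    set π := QuotientGroup.mk' (pPrimeCore 2 ↥C) with hπ
    have h2 : π ⟨_, hXC h1⟩ ∈ pCore 2 (↥C ⧸ pPrimeCore 2 ↥C) := by
      have e : (⟨_, hXC h1⟩ : ↥C) = ⟨b, hbC⟩ * ⟨y, hXC hy⟩ * ⟨b, hbC⟩⁻¹ * ⟨y, hXC hy⟩⁻¹ := rfl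
      rw [e, map_mul, map_mul, map_mul, map_inv, map_inv, mul_assoc (π ⟨b, hbC⟩), mul_assoc]
      exact mul_mem ((mem_opTwo hbC).1 hb) (Subgroup.Normal.conj_mem PSolvable.pCore_normal'
        _ (inv_mem ((mem_opTwo hbC).1 hb)) _)
    obtain ⟨k, hk⟩ := IsPGroup.iff_orderOf.1 PSolvable.isPGroup_pCore ⟨_, h2⟩
    rw [Subgroup.orderOf_mk] at hk
    refine (QuotientGroup.eq_one_iff _).1 (orderOf_eq_one_iff.1 ?_)
    refine Nat.eq_one_of_dvd_coprimes (a := 2 ^ k) (b := Nat.card ↥X) ?_ (hk ▸ dvd_rfl) ?_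
    · exact (Nat.prime_two.coprime_iff_not_dvd.2 (fun h => (Nat.not_even_iff_odd.2 hXodd)
        (even_iff_two_dvd.2 h))).pow_left k
    · refine (orderOf_map_dvd π _).trans ?_
      rw [← Subgroup.orderOf_coe]
      exact Subgroup.orderOf_dvd_natCard X h1
  have hmem : ∀ a ∈ Subgroup.zpowers b, a = 1 ∨ a = b := by
    intro a ha
    obtain ⟨i, rfl⟩ := Subgroup.mem_zpowers_iff.1 ha
    have h2 : b ^ (2 : ℤ) = 1 := by
      rw [show (2 : ℤ) = ((2 : ℕ) : ℤ) by rfl, zpow_natCast, hb2]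
    rcases Int.even_or_odd i with ⟨m, rfl⟩ | ⟨m, rfl⟩
    · exact Or.inl (by rw [← two_mul, zpow_mul, h2, one_zpow])
    · exact Or.inr (by rw [zpow_add, zpow_mul, h2, one_zpow, one_mul, zpow_one])
  obtain ⟨n, hn, hny⟩ := Coprime.exists_fixed_mul (A := Subgroup.zpowers b)
    (N := X ⊓ centralizerPPrimeCore 2 x)
    (Coprime.le_normalizer_inf (Subgroup.zpowers_le.2 hbX) (Subgroup.zpowers_le.2
      (Balance.centralizer_le_normalizer_centralizerPPrimeCore x hbC)))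
    (Nat.Coprime.coprime_dvd_right (Subgroup.card_dvd_of_le inf_le_left) (by
      rw [Nat.card_zpowers]
      refine Nat.Coprime.coprime_dvd_left (orderOf_dvd_of_pow_eq_one hb2) ?_
      exact Nat.prime_two.coprime_iff_not_dvd.2 (fun h => (Nat.not_even_iff_odd.2 hXodd)
        (even_iff_two_dvd.2 h))))
    (Or.inl (Coprime.isSolvable_zpowers b)) (k := y) (fun a ha => by
      rcases hmem a ha with rfl | rfl
      · simp
      · exact hcomm)
  exact ⟨n, hn, Subgroup.mem_centralizer_singleton_iff.2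
    (Subgroup.mem_centralizer_iff.1 hny b (Subgroup.mem_zpowers b)).symm⟩

/-- A 2-subgroup `D` of `C ⊓ M` extends to a Sylow 2-subgroup of `C` inside `M`, if a 2-subgroup
of `C ⊓ M` above `D` has its normalizer 2-elements inside `M`. -/
theorem exists_sylIn_le {C M D : Subgroup G} (hD : IsPGroup 2 D) (hDC : D ≤ C) (hDM : D ≤ M)
    (hN : ∀ T₀ : Subgroup G, IsPGroup 2 T₀ → D ≤ T₀ → T₀ ≤ M → T₀ ≤ C →
      ∀ x ∈ C, x ∈ Subgroup.normalizer (T₀ : Set G) → x ∈ M) :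
    ∃ T : Subgroup G, IsSylIn T C ∧ D ≤ T ∧ T ≤ M := by
  haveI : Fact (Nat.Prime 2) := ⟨Nat.prime_two⟩
  obtain ⟨T, ⟨hTp, hDT, hTC, hTM⟩, hmax⟩ := (Set.toFinite {T : Subgroup G |
    IsPGroup 2 T ∧ D ≤ T ∧ T ≤ C ∧ T ≤ M}).exists_maximal ⟨D, hD, le_rfl, hDC, hDM⟩
  refine ⟨T, ⟨hTC, hTp, fun T' hT'p hTT' hT'C => ?_⟩, hDT, hTM⟩
  by_contra hne
  haveI : Group.IsNilpotent T' := hT'p.isNilpotent
  have hlt : T < T' ⊓ Subgroup.normalizer (T : Set G) :=
    Involutions.StronglyEmbedded.lt_inf_normalizer (lt_of_le_of_ne hTT' (Ne.symm hne))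
  have hle : T' ⊓ Subgroup.normalizer (T : Set G) ≤ M := fun x hx =>
    hN T hTp hDT hTM hTC x (hT'C hx.1) hx.2
  exact absurd (hmax ⟨hT'p.to_le inf_le_left, hDT.trans hlt.le, inf_le_left.trans hT'C, hle⟩ hlt.le)
    (fun h => hlt.not_ge h)

end Cfsg.Agent.Lib.Dichotomy34
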