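import Cfsg.Agent.Lib.Dichotomy34.Local
import Cfsg.Agent.Lib.BenderDeps.Consumers

/-!
# Setting for the dichotomy theorem

`U` is a normal four-subgroup of a Sylow 2-subgroup `S`, `z ∈ U` is central in `S`, and `W` is the
subgroup generated by the cores `O(C(x))`, `x ∈ U`.  All elementary abelian subgroups of order at
least 8 of `M := N(W)` give the same `W`, and `M` controls centralizers of its involutions with
2-rank at least 3 in `M`.
-/

set_option autoImplicit false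
set_option linter.style.haveILetI false

open Cfsg
open Cfsg.Agent.Lib
open Cfsg.Agent.Lib.Balance (valueSup)
open Cfsg.Agent.Lib.Involutions.Basic (orderOf_conj_eq)

namespace Cfsg.Agent.Lib.Dichotomy34

universe u

variable {G : Type u} [Group G]

/-- The subgroup generated by the cores of the centralizers of the elements of `E`. -/
abbrev vs (E : Subgroup G) : Subgroup G :=
  valueSup (fun x : G => centralizerPPrimeCore 2 x) E

theorem theta_le_vs {E : Subgroup G} {a : G} (ha : a ∈ E) (ha1 : a ≠ 1) :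
    centralizerPPrimeCore 2 a ≤ vs E :=
  le_iSup (fun b : {b : G // b ∈ E ∧ b ≠ 1} => centralizerPPrimeCore 2 (b : G)) ⟨a, ha, ha1⟩

theorem vs_conj (g : G) (E : Subgroup G) :
    (vs E).map (MulAut.conj g).toMonoidHom = vs (E.map (MulAut.conj g).toMonoidHom) := by
  rw [vs, valueSup, Subgroup.map_iSup]
  apply le_antisymm
  · refine iSup_le fun a => ?_
    rw [← Balance.centralizerPPrimeCore_conj]
    exact theta_le_vs ⟨a, a.2.1, rfl⟩ fun h => a.2.2 (conj_eq_one_iff.1 h)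
  · refine iSup_le fun b => ?_
    obtain ⟨a, ha, hab⟩ := b.2.1
    have hab' : g * a * g⁻¹ = b := hab
    have ha1 : a ≠ 1 := fun h => b.2.2 (by rw [← hab', h]; group)
    show centralizerPPrimeCore 2 (b : G) ≤ _
    rw [show centralizerPPrimeCore 2 (b : G) = centralizerPPrimeCore 2 (g * a * g⁻¹) by rw [hab'],
      Balance.centralizerPPrimeCore_conj]
    exact le_iSup (fun c : {c : G // c ∈ E ∧ c ≠ 1} =>
      (centralizerPPrimeCore 2 (c : G)).map (MulAut.conj g).toMonoidHom) ⟨a, ha, ha1⟩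

theorem comm_comm {x y : G} (h : x * y = y * x) (g : G) :
    g * x * g⁻¹ * (g * y * g⁻¹) = g * y * g⁻¹ * (g * x * g⁻¹) := by
  calc g * x * g⁻¹ * (g * y * g⁻¹) = g * (x * y) * g⁻¹ := by group
    _ = g * (y * x) * g⁻¹ := by rw [h]
    _ = _ := by group

theorem mem_centralizer_conj {g a y : G} (hy : y ∈ Subgroup.centralizer ({a} : Set G)) :
    g * y * g⁻¹ ∈ Subgroup.centralizer ({g * a * g⁻¹} : Set G) :=
  Subgroup.mem_centralizer_singleton_iff.2
    (comm_comm (Subgroup.mem_centralizer_singleton_iff.1 hy) g)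

theorem commute_of_le_centralizer {a : G} {H : Subgroup G}
    (h : H ≤ Subgroup.centralizer ({a} : Set G)) {x : G} (hx : x ∈ H) : x * a = a * x :=
  Subgroup.mem_centralizer_singleton_iff.1 (h hx)

variable [Finite G]

/-- A subgroup in which `C` has at most two cosets. -/
theorem card_le_two_mul (H C : Subgroup G)
    (h : ∀ s ∈ H, ∀ t ∈ H, s ∉ C → t ∉ C → s⁻¹ * t ∈ C) :
    Nat.card ↥H ≤ 2 * Nat.card ↥(H ⊓ C : Subgroup G) := by
  classical
  by_cases hHC : H ≤ C
  · rw [inf_eq_left.2 hHC]; omega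
  obtain ⟨s, hs, hsC⟩ := SetLike.not_le_iff_exists.1 hHC
  let f : ↥H → ↥(H ⊓ C : Subgroup G) × Bool := fun x =>
    if hx : (x : G) ∈ C then (⟨x, x.2, hx⟩, false)
    else (⟨s⁻¹ * x, H.mul_mem (H.inv_mem hs) x.2, h s hs x x.2 hsC hx⟩, true)
  have hf : Function.Injective f := by
    intro x y hxy
    simp only [f] at hxy
    split_ifs at hxy with hx hy hy
    · exact Subtype.ext (congrArg (fun p : ↥(H ⊓ C : Subgroup G) × Bool => (p.1 : G)) hxy)
    · simp at hxy
    · simp at hxy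
    · exact Subtype.ext (mul_left_cancel
        (congrArg (fun p : ↥(H ⊓ C : Subgroup G) × Bool => (p.1 : G)) hxy))
  have := Nat.card_le_card_of_injective f hf
  rwa [Nat.card_prod, Nat.card_eq_fintype_card (α := Bool), Fintype.card_bool, mul_comm] at this

/-- Two commuting elementary abelian subgroups. -/
theorem card_sup_ge {E F : Subgroup G} (hE : IsElementaryAbelian 2 E)
    (hF : IsElementaryAbelian 2 F) (hc : ∀ e ∈ E, ∀ f ∈ F, e * f = f * e) :
    IsElementaryAbelian 2 (E ⊔ F) ∧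
      (¬ F ≤ E → Nat.card ↥E * 2 ≤ Nat.card ↥(E ⊔ F : Subgroup G)) := by
  haveI : Fact (Nat.Prime 2) := ⟨Nat.prime_two⟩
  have hs : IsElementaryAbelian 2 (E ⊔ F) := PGroups.elemAb_sup hE hF hc
  refine ⟨hs, fun h => ?_⟩
  obtain ⟨f, hf, hfE⟩ := SetLike.not_le_iff_exists.1 h
  exact PGroups.card_mul_le_card_of_mem le_sup_left (PGroups.elemAb_isPGroup hs)
    (Subgroup.mem_sup_right hf) hfE

/-- The Sylow subgroups of a subgroup are conjugate in it. -/
theorem IsSylIn.exists_conj_le {T C H : Subgroup G} (hT : IsSylIn T C) (hH : IsPGroup 2 H)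
    (hHC : H ≤ C) : ∃ m ∈ C, H.map (MulAut.conj m).toMonoidHom ≤ T := by
  haveI : Fact (Nat.Prime 2) := ⟨Nat.prime_two⟩
  obtain ⟨Q, hQ⟩ := (hT.isP.of_equiv (Subgroup.subgroupOfEquivOfLe hT.le).symm).exists_le_sylow
  obtain ⟨R, hR⟩ := (hH.of_equiv (Subgroup.subgroupOfEquivOfLe hHC).symm).exists_le_sylow
  have hQT : (Q : Subgroup ↥C).map C.subtype = T :=
    hT.max _ (Q.2.map _) (fun t ht => ⟨⟨t, hT.le ht⟩, hQ ht, rfl⟩) (Subgroup.map_subtype_le _)
  obtain ⟨m, hm⟩ := MulAction.exists_smul_eq ↥C R Q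
  refine ⟨m, m.2, ?_⟩
  rintro _ ⟨x, hx, rfl⟩
  rw [← hQT, ← hm, Sylow.coe_subgroup_smul]
  exact ⟨_, Subgroup.smul_mem_pointwise_smul (a := MulAut.conj m) (⟨x, hHC hx⟩ : ↥C) _ (hR hx), rfl⟩

theorem IsSylIn.of_sylow (S : Sylow 2 G) {C : Subgroup G} (h : (S : Subgroup G) ≤ C) :
    IsSylIn (S : Subgroup G) C :=
  ⟨h, S.2, fun _ hT' hle _ => S.3 hT' hle⟩

/-- The data for the dichotomy theorem. -/
structure Ctx (G : Type u) [Group G] where
  S : Sylow 2 G
  U : Subgroup G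
  z : G
  u : G
  hL : ∀ t : G, orderOf t = 2 → pLayer 2 ↥(Subgroup.centralizer ({t} : Set G)) = ⊥
  hcon : ∀ t : G, orderOf t = 2 → IsPConstrained 2 ↥(Subgroup.centralizer ({t} : Set G))
  hUS : U ≤ (S : Subgroup G)
  hU : IsElementaryAbelian 2 U
  hU4 : Nat.card ↥U = 4
  hUn : ∀ s ∈ (S : Subgroup G), ∀ x ∈ U, s * x * s⁻¹ ∈ U
  hzU : z ∈ U
  huU : u ∈ U
  hz1 : z ≠ 1
  hu1 : u ≠ 1
  huz : u ≠ z
  hzc : ∀ s ∈ (S : Subgroup G), s * z = z * s
  halt : (∀ s ∈ (S : Subgroup G), s * u = u * s) ∨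
    ∀ c ∈ (S : Subgroup G), c ^ 2 = 1 → c ≠ 1 →
      (∀ s ∈ (S : Subgroup G), s * c = c * s) → c = z
  h8 : ∃ E : Subgroup G, E ≤ (S : Subgroup G) ∧ IsElementaryAbelian 2 E ∧ 8 ≤ Nat.card ↥E

namespace Ctx

variable (X : Ctx G)

/-- The subgroup generated by the cores over `U`. -/
abbrev W : Subgroup G := vs X.U

/-- Its normalizer. -/
abbrev M : Subgroup G := Subgroup.normalizer (X.W : Set G)

omit [Finite G] in
theorem hzS : X.z ∈ (X.S : Subgroup G) := X.hUS X.hzU

omit [Finite G] in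
theorem huS : X.u ∈ (X.S : Subgroup G) := X.hUS X.huU

omit [Finite G] in
theorem orderOf_z : orderOf X.z = 2 := orderOf_eq_prime (PGroups.elemAb_pow X.hU X.hzU) X.hz1

omit [Finite G] in
theorem orderOf_u : orderOf X.u = 2 := orderOf_eq_prime (PGroups.elemAb_pow X.hU X.huU) X.hu1

omit [Finite G] in
theorem zz : X.z * X.z = 1 := by rw [← pow_two]; exact PGroups.elemAb_pow X.hU X.hzU

omit [Finite G] in
theorem uu : X.u * X.u = 1 := by rw [← pow_two]; exact PGroups.elemAb_pow X.hU X.huU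

omit [Finite G] in
theorem zu : X.z * X.u = X.u * X.z := PGroups.elemAb_comm X.hU X.hzU X.huU

theorem U_cases {x : G} (hx : x ∈ X.U) : x = 1 ∨ x = X.z ∨ x = X.u ∨ x = X.z * X.u := by
  classical
  have hsub : ({1, X.z, X.u, X.z * X.u} : Finset G) ⊆ (Set.toFinite (X.U : Set G)).toFinset := by
    intro y hy
    simp only [Finset.mem_insert, Finset.mem_singleton] at hy
    rw [Set.Finite.mem_toFinset, SetLike.mem_coe]
    rcases hy with rfl | rfl | rfl | rfl
    exacts [one_mem _, X.hzU, X.huU, mul_mem X.hzU X.huU]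
  have h1 : X.z * X.u ≠ 1 := fun h => X.huz (by
    calc X.u = X.z * (X.z * X.u) := by rw [← mul_assoc, X.zz, one_mul]
      _ = X.z := by rw [h, mul_one])
  have h2 : X.z * X.u ≠ X.z := fun h => X.hu1 (mul_eq_left.1 h)
  have h3 : X.z * X.u ≠ X.u := fun h => X.hz1 (mul_eq_right.1 h)
  have hcard : ({1, X.z, X.u, X.z * X.u} : Finset G).card = 4 := by
    rw [Finset.card_insert_of_notMem, Finset.card_insert_of_notMem, Finset.card_pair h3.symm]
    · simp [X.huz.symm, h2.symm]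
    · simp [X.hz1.symm, X.hu1.symm, h1.symm]
  have heq := Finset.eq_of_subset_of_card_le hsub (by
    rw [hcard, ← X.hU4, ← Nat.card_eq_card_finite_toFinset]
    exact le_rfl)
  have : x ∈ ({1, X.z, X.u, X.z * X.u} : Finset G) := by
    rw [heq, Set.Finite.mem_toFinset]; exact hx
  simpa using this

theorem conj_u {s : G} (hs : s ∈ (X.S : Subgroup G)) :
    s * X.u * s⁻¹ = X.u ∨ s * X.u * s⁻¹ = X.z * X.u := by
  rcases X.U_cases (X.hUn s hs X.u X.huU) with h | h | h | h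
  · exact absurd (conj_eq_one_iff.1 h) X.hu1
  · refine absurd ?_ X.huz
    have h2 : s * X.z * s⁻¹ = X.z := by rw [X.hzc s hs, mul_inv_cancel_right]
    exact mul_left_cancel (mul_right_cancel (h.trans h2.symm))
  · exact Or.inl h
  · exact Or.inr h

theorem conj_u_of_ne {s : G} (hs : s ∈ (X.S : Subgroup G)) (h : s * X.u ≠ X.u * s) :
    s * X.u * s⁻¹ = X.z * X.u :=
  (X.conj_u hs).resolve_left fun h1 => h (mul_inv_eq_iff_eq_mul.1 h1)

theorem inv_mul_mem {s t : G} (hs : s ∈ (X.S : Subgroup G)) (ht : t ∈ (X.S : Subgroup G))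
    (hsu : s ∉ Subgroup.centralizer ({X.u} : Set G))
    (htu : t ∉ Subgroup.centralizer ({X.u} : Set G)) :
    s⁻¹ * t ∈ Subgroup.centralizer ({X.u} : Set G) := by
  rw [Subgroup.mem_centralizer_singleton_iff] at hsu htu ⊢
  have h := (X.conj_u_of_ne ht htu).trans (X.conj_u_of_ne hs hsu).symm
  calc s⁻¹ * t * X.u = s⁻¹ * (t * X.u * t⁻¹) * t := by group
    _ = s⁻¹ * (s * X.u * s⁻¹) * t := by rw [h]
    _ = X.u * (s⁻¹ * t) := by group

theorem sq_comm_u {s : G} (hs : s ∈ (X.S : Subgroup G)) :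
    s * s ∈ Subgroup.centralizer ({X.u} : Set G) := by
  by_cases h : s ∈ Subgroup.centralizer ({X.u} : Set G)
  · exact mul_mem h h
  · have := X.inv_mul_mem (inv_mem hs) hs (fun h1 => h (by simpa using inv_mem h1)) h
    rwa [inv_inv] at this

theorem comm_U {s : G} (hs : s ∈ (X.S : Subgroup G)) (hsu : s * X.u = X.u * s) {x : G}
    (hx : x ∈ X.U) : s * x = x * s := by
  rcases X.U_cases hx with rfl | rfl | rfl | rfl
  · simp
  · exact X.hzc s hs
  · exact hsu
  · rw [← mul_assoc, X.hzc s hs, mul_assoc, hsu, ← mul_assoc]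

theorem card_inf_ge {B : Subgroup G} (hBS : B ≤ (X.S : Subgroup G)) (h8 : 8 ≤ Nat.card ↥B) :
    4 ≤ Nat.card ↥(B ⊓ Subgroup.centralizer ({X.u} : Set G) : Subgroup G) := by
  have := card_le_two_mul B (Subgroup.centralizer ({X.u} : Set G))
    fun s hs t ht => X.inv_mul_mem (hBS hs) (hBS ht)
  omega

/-- For `B ≤ S` of order at least 8, either `U ≤ B` or `(B ⊓ C(u)) ⊔ U` has order at least 8. -/
theorem sup_U {B : Subgroup G} (hBS : B ≤ (X.S : Subgroup G)) (hB : IsElementaryAbelian 2 B) :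
    IsElementaryAbelian 2 (B ⊓ Subgroup.centralizer ({X.u} : Set G) ⊔ X.U) ∧
      (8 ≤ Nat.card ↥B →
        8 ≤ Nat.card ↥(B ⊓ Subgroup.centralizer ({X.u} : Set G) ⊔ X.U : Subgroup G)) := by
  obtain ⟨hel, hcard⟩ := card_sup_ge (PGroups.elemAb_mono hB
      (inf_le_left : B ⊓ Subgroup.centralizer ({X.u} : Set G) ≤ B)) X.hU
    (fun e he x hx => X.comm_U (hBS he.1) (Subgroup.mem_centralizer_singleton_iff.1 he.2) hx)
  refine ⟨hel, fun h8 => ?_⟩
  by_cases hle : X.U ≤ B ⊓ Subgroup.centralizer ({X.u} : Set G)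
  · have hBu : B ≤ Subgroup.centralizer ({X.u} : Set G) := fun b hb =>
      Subgroup.mem_centralizer_singleton_iff.2 (PGroups.elemAb_comm hB hb (hle X.huU).1)
    rw [inf_eq_left.2 hBu]
    exact h8.trans (Subgroup.card_le_of_le le_sup_left)
  · have := X.card_inf_ge hBS h8
    have := hcard hle
    omega

theorem exists_B₀ : ∃ B : Subgroup G, B ≤ (X.S : Subgroup G) ∧ IsElementaryAbelian 2 B ∧
    8 ≤ Nat.card ↥B ∧ X.U ≤ B := by
  obtain ⟨E, hES, hE, h8⟩ := X.h8
  exact ⟨_, sup_le (inf_le_left.trans hES) X.hUS, (X.sup_U hES hE).1, (X.sup_U hES hE).2 h8,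
    le_sup_right⟩

theorem vs_eq_W {B : Subgroup G} (hBS : B ≤ (X.S : Subgroup G)) (hB : IsElementaryAbelian 2 B)
    (h8 : 8 ≤ Nat.card ↥B) : vs B = X.W := by
  have hFT := BenderDeps.Consumers.oddOrderSolvable.{u}
  obtain ⟨hel, hcard⟩ := X.sup_U hBS hB
  have h4 := X.card_inf_ge hBS h8
  have h1 := (FTDeps.Row3110.valueSup_eq_of_le hFT X.hL hB h8
    (inf_le_left : B ⊓ Subgroup.centralizer ({X.u} : Set G) ≤ B) h4).1
  have h2 := (FTDeps.Row3110.valueSup_eq_of_le hFT X.hL hel (hcard h8)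
    (le_sup_left : B ⊓ Subgroup.centralizer ({X.u} : Set G) ≤ _) h4).1
  have h3 := (FTDeps.Row3110.valueSup_eq_of_le hFT X.hL hel (hcard h8)
    (le_sup_right : X.U ≤ _) X.hU4.ge).1
  exact h1.symm.trans (h2.trans h3.symm)

theorem W_odd : Odd (Nat.card ↥X.W) := by
  obtain ⟨B, hBS, hB, h8, -⟩ := X.exists_B₀
  rw [← X.vs_eq_W hBS hB h8]
  exact (FTDeps.Row3110.valueSup_eq_of_le BenderDeps.Consumers.oddOrderSolvable.{u} X.hL hB h8
    le_rfl (by omega)).2

theorem conj_U {s : G} (hs : s ∈ (X.S : Subgroup G)) :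
    X.U.map (MulAut.conj s).toMonoidHom = X.U := by
  refine Subgroup.eq_of_le_of_card_ge ?_
    (Subgroup.card_map_of_injective (MulAut.conj s).injective).ge
  rintro _ ⟨x, hx, rfl⟩
  exact X.hUn s hs x hx

theorem S_le_M : (X.S : Subgroup G) ≤ X.M := fun s hs => by
  rw [Subgroup.mem_normalizer_iff_map_conj_eq]
  show (vs X.U).map _ = vs X.U
  exact (vs_conj s X.U).trans (congrArg vs (X.conj_U hs))

theorem exists_conj_S {H : Subgroup G} (hH : IsPGroup 2 H) (hHM : H ≤ X.M) :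
    ∃ m ∈ X.M, H.map (MulAut.conj m).toMonoidHom ≤ (X.S : Subgroup G) :=
  (IsSylIn.of_sylow X.S X.S_le_M).exists_conj_le hH hHM

theorem exists_conj_invol {t : G} (ht : orderOf t = 2) (htM : t ∈ X.M) :
    ∃ m ∈ X.M, m * t * m⁻¹ ∈ (X.S : Subgroup G) := by
  haveI : Fact (Nat.Prime 2) := ⟨Nat.prime_two⟩
  obtain ⟨m, hm, hle⟩ := X.exists_conj_S (H := Subgroup.zpowers t)
    (IsPGroup.of_card (n := 1) (by rw [Nat.card_zpowers, ht, pow_one]))
    (Subgroup.zpowers_le.2 htM)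
  exact ⟨m, hm, hle ⟨t, Subgroup.mem_zpowers t, rfl⟩⟩

theorem vs_eq_W_of_le_M {B : Subgroup G} (hBM : B ≤ X.M) (hB : IsElementaryAbelian 2 B)
    (h8 : 8 ≤ Nat.card ↥B) : vs B = X.W := by
  obtain ⟨m, hm, hle⟩ := X.exists_conj_S (PGroups.elemAb_isPGroup hB) hBM
  have h1 := X.vs_eq_W hle (PGroups.elemAb_conj m hB)
    (h8.trans (Subgroup.card_map_of_injective (MulAut.conj m).injective).ge)
  rw [← vs_conj] at h1
  have h2 : (X.W).map (MulAut.conj m).toMonoidHom = X.W :=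
    (Subgroup.mem_normalizer_iff_map_conj_eq.1 hm)
  exact Subgroup.map_injective (MulAut.conj m).injective (h1.trans h2.symm)

/-- `M` is the normalizer of what its large elementary subgroups generate. -/
theorem mem_M {B : Subgroup G} (hBM : B ≤ X.M) (hB : IsElementaryAbelian 2 B)
    (h8 : 8 ≤ Nat.card ↥B) {g : G} (hg : ∀ b ∈ B, g * b * g⁻¹ ∈ X.M) : g ∈ X.M := by
  have hgB : B.map (MulAut.conj g).toMonoidHom ≤ X.M := by
    rintro _ ⟨b, hb, rfl⟩
    exact hg b hb
  have h1 := X.vs_eq_W_of_le_M hgB (PGroups.elemAb_conj g hB)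
    (h8.trans (Subgroup.card_map_of_injective (MulAut.conj g).injective).ge)
  rw [← vs_conj, X.vs_eq_W_of_le_M hBM hB h8] at h1
  exact Subgroup.mem_normalizer_iff_map_conj_eq.2 h1

theorem mem_M_inv {B : Subgroup G} (hBM : B ≤ X.M) (hB : IsElementaryAbelian 2 B)
    (h8 : 8 ≤ Nat.card ↥B) {g : G} (hg : ∀ b ∈ B, g⁻¹ * b * g ∈ X.M) : g ∈ X.M := by
  have := X.mem_M hBM hB h8 (g := g⁻¹) (fun b hb => by simpa using hg b hb)
  simpa using inv_mem this

theorem W_inf {B : Subgroup G} (hBM : B ≤ X.M) (hB : IsElementaryAbelian 2 B)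
    (h8 : 8 ≤ Nat.card ↥B) {a : G} (ha : a ∈ B) (ha1 : a ≠ 1) :
    centralizerPPrimeCore 2 a ≤ X.W ∧
      X.W ⊓ Subgroup.centralizer ({a} : Set G) = centralizerPPrimeCore 2 a := by
  haveI : Fact (Nat.Prime 2) := ⟨Nat.prime_two⟩
  have hfun := FTDeps.Row3110.functor_of_locals BenderDeps.Consumers.oddOrderSolvable.{u} X.hL hB
  rw [← X.vs_eq_W_of_le_M hBM hB h8]
  exact ⟨theta_le_vs ha ha1,
    (Signalizer.Completes.closure hB (p := 2) (by simpa using h8) hfun.1
      (Signalizer.completes hB (by simpa using h8) hfun)).2 a ha ha1⟩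

theorem theta_le_M {B : Subgroup G} (hBM : B ≤ X.M) (hB : IsElementaryAbelian 2 B)
    (h8 : 8 ≤ Nat.card ↥B) {a : G} (ha : a ∈ B) (ha1 : a ≠ 1) :
    centralizerPPrimeCore 2 a ≤ X.M :=
  ((X.W_inf hBM hB h8 ha ha1).1).trans Subgroup.le_normalizer

/-- An involution of `S` centralizing `u` lies in a large elementary subgroup of `S`. -/
theorem exists_eight_of_comm {a : G} (haS : a ∈ (X.S : Subgroup G)) (ha : a ^ 2 = 1)
    (hau : a * X.u = X.u * a) :
    ∃ B : Subgroup G, B ≤ (X.S : Subgroup G) ∧ IsElementaryAbelian 2 B ∧ 8 ≤ Nat.card ↥B ∧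
      a ∈ B := by
  by_cases haU : a ∈ X.U
  · obtain ⟨B, hBS, hB, h8, hUB⟩ := X.exists_B₀
    exact ⟨B, hBS, hB, h8, hUB haU⟩
  · obtain ⟨hel, hc⟩ := FTDeps.Row3110.card_ge_double X.hU ha haU
      fun x hx => (X.comm_U haS hau hx).symm
    exact ⟨_, sup_le X.hUS (Subgroup.zpowers_le.2 haS), hel, by rw [X.hU4] at hc; omega,
      Subgroup.mem_sup_right (Subgroup.mem_zpowers a)⟩

/-- In the case of a single central involution of `S`: `z ∈ O_{2',2}(C(x))` for `x ∈ U ∖ ⟨z⟩`. -/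
theorem z_mem_opTwo
    (huniq : ∀ c ∈ (X.S : Subgroup G), c ^ 2 = 1 → c ≠ 1 →
      (∀ s ∈ (X.S : Subgroup G), s * c = c * s) → c = X.z)
    {x : G} (hx : x ∈ X.U) (hx1 : x ≠ 1) :
    X.z ∈ opTwo (Subgroup.centralizer ({x} : Set G)) := by
  haveI : Fact (Nat.Prime 2) := ⟨Nat.prime_two⟩
  have hxo : orderOf x = 2 := orderOf_eq_prime (PGroups.elemAb_pow X.hU hx) hx1
  set C := Subgroup.centralizer ({x} : Set G) with hC
  set D := (X.S : Subgroup G) ⊓ Subgroup.centralizer ({X.u} : Set G) with hD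
  have hDU : ∀ d ∈ D, ∀ y ∈ X.U, d * y = y * d := fun d hd y hy =>
    X.comm_U hd.1 (Subgroup.mem_centralizer_singleton_iff.1 hd.2) hy
  have hDC : D ≤ C := fun d hd => Subgroup.mem_centralizer_singleton_iff.2 (hDU d hd x hx)
  obtain ⟨B, hBS, hB, h8, hUB⟩ := X.exists_B₀
  have hBD : B ≤ D := fun b hb =>
    ⟨hBS hb, Subgroup.mem_centralizer_singleton_iff.2 (PGroups.elemAb_comm hB hb (hUB X.huU))⟩
  obtain ⟨T, hT, hDT, hTM⟩ := exists_sylIn_le (C := C) (M := X.M) (X.S.2.to_le inf_le_left) hDC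
    (inf_le_left.trans X.S_le_M) fun T₀ _ hDT₀ hT₀M _ y _ hy =>
      X.mem_M ((hBS.trans X.S_le_M)) hB h8 fun b hb =>
        hT₀M ((Subgroup.mem_normalizer_iff.1 hy b).1 (hDT₀ (hBD hb)))
  have hzD : X.z ∈ D := ⟨X.hzS, Subgroup.mem_centralizer_singleton_iff.2 X.zu⟩
  have hzT : X.z ∈ T := hDT hzD
  by_cases hcentral : ∀ t ∈ T, X.z * t = t * X.z
  · exact hT.mem_opTwo_of_centralizes (X.hcon x hxo) hzT fun t ht => hcentral t ht.1
  push Not at hcentral
  obtain ⟨p, hp, hpz⟩ := hcentral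
  have hpD : p ∉ D := fun h => hpz (hDU p h X.z X.hzU).symm
  -- `T` is a Sylow 2-subgroup of `G` and `D` has index two in it
  obtain ⟨Q, hQ⟩ := hT.isP.exists_le_sylow
  obtain ⟨i, hi⟩ := IsPGroup.iff_card.1 (X.S.2.to_le (inf_le_left : D ≤ _))
  obtain ⟨j, hj⟩ := IsPGroup.iff_card.1 hT.isP
  have hlt : Nat.card ↥D < Nat.card ↥T := Signalizer.card_lt_of_lt
    (lt_of_le_of_ne hDT fun h => hpD (h ▸ hp))
  have hij : i < j := by
    rw [hi, hj] at hlt
    exact (Nat.pow_lt_pow_iff_right (by norm_num)).1 hlt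
  have hS2 : Nat.card ↥(X.S : Subgroup G) ≤ 2 * Nat.card ↥D :=
    card_le_two_mul _ _ fun s hs t ht => X.inv_mul_mem hs ht
  have hTge : 2 * Nat.card ↥D ≤ Nat.card ↥T := by
    rw [hi, hj, ← pow_succ']
    exact Nat.pow_le_pow_right two_pos hij
  have hQS : Nat.card ↥(Q : Subgroup G) = Nat.card ↥(X.S : Subgroup G) := by
    rw [Sylow.card_eq_multiplicity, Sylow.card_eq_multiplicity]
  have hTQ : T = (Q : Subgroup G) := Subgroup.eq_of_le_of_card_ge hQ (by omega)
  have hTD : Nat.card ↥T = Nat.card ↥D * 2 := by rw [hTQ, hQS]; rw [hTQ, hQS] at hTge; omega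
  have hidx : (D.subgroupOf T).index = 2 := by
    have h1 := (D.subgroupOf T).card_mul_index
    rw [Nat.card_congr (Subgroup.subgroupOfEquivOfLe hDT).toEquiv, hTD] at h1
    exact Nat.eq_of_mul_eq_mul_left Nat.card_pos h1
  have hmul : ∀ a ∈ T, ∀ b ∈ T, (a * b ∈ D ↔ (a ∈ D ↔ b ∈ D)) := fun a ha b hb =>
    Subgroup.mul_mem_iff_of_index_two hidx (a := ⟨a, ha⟩) (b := ⟨b, hb⟩)
  -- the commutator `d` of `p` and `z` is the central involution `x` of `T`
  set z' := p * X.z * p⁻¹ with hz'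
  have hpp : p * p ∈ D := (hmul p hp p hp).2 Iff.rfl
  have hconj : ∀ s ∈ D, p⁻¹ * s * p ∈ D := fun s hs => by
    have h1 : s * p ∉ D := fun h => hpD ((hmul s (hDT hs) p hp).1 h |>.1 hs)
    have h2 : p⁻¹ ∉ D := fun h => hpD (by simpa using inv_mem h)
    rw [mul_assoc]
    exact (hmul _ (inv_mem hp) _ (mul_mem (hDT hs) hp)).2 (iff_of_false h2 h1)
  have hz'D : ∀ s ∈ D, s * z' = z' * s := fun s hs => by
    calc s * z' = p * (p⁻¹ * s * p * X.z) * p⁻¹ := by rw [hz']; group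
      _ = p * (X.z * (p⁻¹ * s * p)) * p⁻¹ := by rw [hDU _ (hconj s hs) X.z X.hzU]
      _ = z' * s := by rw [hz']; group
  have hzz' : X.z * z' = z' * X.z := hz'D X.z hzD
  set d := z' * X.z with hd
  have hdD : ∀ s ∈ D, s * d = d * s := fun s hs => by
    rw [hd, ← mul_assoc, hz'D s hs, mul_assoc, hDU s hs X.z X.hzU, ← mul_assoc]
  have hdp : p * d = d * p := by
    have h1 : p * z' = X.z * p := by
      calc p * z' = p * p * X.z * p⁻¹ := by rw [hz']; group
        _ = X.z * (p * p) * p⁻¹ := by rw [hDU _ hpp X.z X.hzU]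
        _ = X.z * p := by group
    calc p * d = p * z' * X.z := by rw [hd]; group
      _ = X.z * (p * X.z) := by rw [h1, mul_assoc]
      _ = X.z * z' * p := by rw [hz']; group
      _ = d * p := by rw [hzz', hd]
  have hdT : d ∈ T := mul_mem (mul_mem (mul_mem hp hzT) (inv_mem hp)) hzT
  have hdall : ∀ t ∈ T, t * d = d * t := by
    intro t ht
    by_cases htD : t ∈ D
    · exact hdD t htD
    · have h1 : p * t ∈ D := (hmul p hp t ht).2 (iff_of_false hpD htD)
      calc t * d = p⁻¹ * ((p * t) * d) := by group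
        _ = p⁻¹ * (d * (p * t)) := by rw [hdD _ h1]
        _ = p⁻¹ * (d * p) * t := by group
        _ = p⁻¹ * (p * d) * t := by rw [hdp]
        _ = d * t := by group
  have hd2 : d ^ 2 = 1 := by
    have hcz : Commute z' X.z := hzz'.symm
    rw [hd, hcz.mul_pow, hz', conj_pow, pow_two X.z, X.zz]; group
  have hd1 : d ≠ 1 := fun h => hpz (by
    have h1 : z' = X.z := by
      calc z' = d * X.z := by rw [hd, mul_assoc, X.zz, mul_one]
        _ = X.z := by rw [h, one_mul]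
    exact (mul_inv_eq_iff_eq_mul.1 h1).symm)
  obtain ⟨g, hg⟩ := MulAction.exists_smul_eq G Q X.S
  have hmemS : ∀ s, s ∈ (X.S : Subgroup G) ↔ g⁻¹ * s * g ∈ T := by
    intro s
    rw [← hg, Sylow.coe_subgroup_smul, Subgroup.mem_pointwise_smul_iff_inv_smul_mem, hTQ]
    simp [MulAut.smul_def]
  have huT : ∀ c ∈ T, c ^ 2 = 1 → c ≠ 1 → (∀ t ∈ T, t * c = c * t) → g * c * g⁻¹ = X.z := by
    intro c hc hc2 hc1 hcc
    refine huniq _ ((hmemS _).2 (by simpa [mul_assoc] using hc)) (by rw [conj_pow, hc2]; group)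
      (fun h => hc1 (conj_eq_one_iff.1 h)) fun s hs => ?_
    have := comm_comm (hcc _ ((hmemS s).1 hs)) g
    simpa [mul_assoc] using this
  have hxT : x ∈ T := hDT ⟨X.hUS hx,
    Subgroup.mem_centralizer_singleton_iff.2 (PGroups.elemAb_comm X.hU hx X.huU)⟩
  have hdx : d = x := mul_left_cancel (mul_right_cancel ((huT d hdT hd2 hd1 hdall).trans
    (huT x hxT (PGroups.elemAb_pow X.hU hx) hx1
      fun t ht => commute_of_le_centralizer hT.le ht).symm))
  have hzx : X.z * x = x * X.z := PGroups.elemAb_comm X.hU X.hzU hx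
  have htz : ∀ t ∈ T, t * X.z * t⁻¹ = X.z ∨ t * X.z * t⁻¹ = X.z * x := by
    intro t ht
    by_cases htD : t ∈ D
    · exact Or.inl (by rw [hDU t htD X.z X.hzU]; group)
    · right
      have h1 : p⁻¹ * t ∈ D := (hmul _ (inv_mem hp) t ht).2
        (iff_of_false (fun h => hpD (by simpa using inv_mem h)) htD)
      calc t * X.z * t⁻¹ = p * ((p⁻¹ * t) * X.z) * (p⁻¹ * t)⁻¹ * p⁻¹ := by group
        _ = z' := by rw [hDU _ h1 X.z X.hzU, hz']; group
        _ = d * X.z := by rw [hd, mul_assoc, X.zz, mul_one]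
        _ = X.z * x := by rw [hdx, hzx]
  refine hT.mem_opTwo_of_stab (X.hcon x hxo) (u := x)
    (Subgroup.mem_centralizer_singleton_iff.2 rfl) (PGroups.elemAb_pow X.hU hx)
    (fun c hc => Subgroup.mem_centralizer_singleton_iff.1 hc) hzT fun t ht => ?_
  rcases htz t ht.1 with h | h
  · left
    rw [← mul_inv_eq_iff_eq_mul.1 h, mul_inv_cancel_right]
  · right
    have h1 : t * X.z = X.z * x * t := mul_inv_eq_iff_eq_mul.1 h
    rw [mul_inv_eq_iff_eq_mul]
    calc X.z * t = X.z * (t * X.z) * X.z := by rw [mul_assoc, mul_assoc, X.zz, mul_one]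
      _ = x * t * X.z := by rw [h1, mul_assoc X.z x t, ← mul_assoc X.z X.z, X.zz, one_mul]
      _ = t * x * X.z := by rw [commute_of_le_centralizer hT.le ht.1]
      _ = t * x * X.z := rfl

include X in
/-- The inversion principle. -/
theorem le_theta {x b : G} {Y : Subgroup G} (hx : orderOf x = 2) (hb : orderOf b = 2)
    (hbop : b ∈ opTwo (Subgroup.centralizer ({x} : Set G)))
    (hY : Y ≤ Subgroup.centralizer ({x} : Set G)) (hYodd : Odd (Nat.card ↥Y))
    (hbY : b ∈ Subgroup.normalizer (Y : Set G))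
    (hfix : Y ⊓ Subgroup.centralizer ({b} : Set G) ≤ centralizerPPrimeCore 2 b) :
    Y ≤ centralizerPPrimeCore 2 x := by
  haveI : Fact (Nat.Prime 2) := ⟨Nat.prime_two⟩
  intro y hy
  have hb2 : b ^ 2 = 1 := by rw [← hb, pow_orderOf_eq_one]
  obtain ⟨n, hn, hny⟩ := exists_fixed_of_opTwo hY hYodd hbop hb2 hbY hy
  have h1 : n * y ∈ centralizerPPrimeCore 2 b := hfix ⟨mul_mem hn.1 hy, hny⟩
  have hbx : b * x = x * b := commute_of_le_centralizer le_rfl (opTwo_le _ hbop)
  have h2 := Balance.balance_of_pLayer_eq_bot hb hbx (X.hL x hx)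
    ⟨h1, mul_mem (hY hn.1) (hY hy)⟩
  simpa using (centralizerPPrimeCore 2 x).mul_mem ((centralizerPPrimeCore 2 x).inv_mem hn.2) h2

/-- `C(z) ≤ M` when `S` has a single central involution. -/
theorem centralizer_z_le (hnc : ¬ ∀ s ∈ (X.S : Subgroup G), s * X.u = X.u * s) :
    Subgroup.centralizer ({X.z} : Set G) ≤ X.M := by
  haveI : Fact (Nat.Prime 2) := ⟨Nat.prime_two⟩
  have huniq := X.halt.resolve_left hnc
  set C := Subgroup.centralizer ({X.z} : Set G) with hC
  have hSC : (X.S : Subgroup G) ≤ C := fun s hs =>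
    Subgroup.mem_centralizer_singleton_iff.2 (X.hzc s hs)
  have hT : IsSylIn (X.S : Subgroup G) C := IsSylIn.of_sylow X.S hSC
  obtain ⟨B, hBS, hB, h8, hUB⟩ := X.exists_B₀
  have hzo := X.orderOf_z
  have hU' : X.U ≤ (X.S : Subgroup G) ⊓ opTwo C := by
    refine le_inf X.hUS fun y hy => ?_
    refine hT.mem_opTwo_of_stab (X.hcon _ hzo) (u := X.z)
      (Subgroup.mem_centralizer_singleton_iff.2 rfl) (PGroups.elemAb_pow X.hU X.hzU)
      (fun c hc => Subgroup.mem_centralizer_singleton_iff.1 hc) (X.hUS hy) fun t ht => ?_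
    have hyy : y⁻¹ = y :=
      inv_eq_of_mul_eq_one_right (by rw [← pow_two]; exact PGroups.elemAb_pow X.hU hy)
    have hty : t * y * t⁻¹ = y ∨ t * y * t⁻¹ = X.z * y := by
      have hzt : t * X.z * t⁻¹ = X.z := by rw [X.hzc t ht.1, mul_inv_cancel_right]
      rcases X.U_cases hy with rfl | rfl | rfl | rfl
      · exact Or.inl (by group)
      · exact Or.inl hzt
      · exact X.conj_u ht.1
      · rcases X.conj_u ht.1 with h | h
        · exact Or.inl (by rw [← conj_mul, hzt, h])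
        · exact Or.inr (by rw [← conj_mul, hzt, h])
    rcases hty with h | h
    · left
      rw [mul_inv_eq_iff_eq_mul]
      exact (mul_inv_eq_iff_eq_mul.1 h).symm
    · right
      have h1 : t * y = X.z * y * t := mul_inv_eq_iff_eq_mul.1 h
      have hzy : X.z * y = y * X.z := PGroups.elemAb_comm X.hU X.hzU hy
      rw [hyy, mul_assoc, h1, ← mul_assoc, hzy, ← mul_assoc,
        show y * y = 1 by rw [← pow_two]; exact PGroups.elemAb_pow X.hU hy, one_mul]
      exact (X.hzc t ht.1).symm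
  intro g hg
  have hθM : centralizerPPrimeCore 2 X.z ≤ X.M :=
    X.theta_le_M (hBS.trans X.S_le_M) hB h8 (hUB X.hzU) X.hz1
  refine sup_le hθM ?_ (hT.le_core_sup_normalizer hg)
  rintro n ⟨hnC, hnP⟩
  set W' := X.W.map (MulAut.conj n⁻¹).toMonoidHom with hW'
  have hW'odd : Odd (Nat.card ↥W') := by
    rw [hW', Subgroup.card_map_of_injective (MulAut.conj n⁻¹).injective]; exact X.W_odd
  have hmemW' : ∀ y, y ∈ W' ↔ n * y * n⁻¹ ∈ X.W := by
    intro y
    rw [hW', Subgroup.mem_map_equiv]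
    simp
  have hUW' : X.U ≤ Subgroup.normalizer (W' : Set G) := by
    intro e he
    have h1 : n * e * n⁻¹ ∈ X.M :=
      X.S_le_M ((Subgroup.mem_normalizer_iff.1 hnP e).1 (hU' he)).1
    refine Subgroup.mem_normalizer_iff.2 fun y => ?_
    rw [hmemW', hmemW',
      show n * (e * y * e⁻¹) * n⁻¹ = n * e * n⁻¹ * (n * y * n⁻¹) * (n * e * n⁻¹)⁻¹ by group]
    exact Subgroup.mem_normalizer_iff.1 h1 _
  have hW'z : W' ⊓ C = centralizerPPrimeCore 2 X.z := by
    have hinf := (X.W_inf (hBS.trans X.S_le_M) hB h8 (hUB X.hzU) X.hz1).2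
    have hnθ := Balance.centralizer_le_normalizer_centralizerPPrimeCore (p := 2) X.z hnC
    ext y
    rw [Subgroup.mem_inf, hmemW', Subgroup.mem_normalizer_iff.1 hnθ y, ← hinf, Subgroup.mem_inf]
    refine and_congr_right fun _ => ?_
    constructor
    · intro hy
      exact mul_mem (mul_mem hnC hy) (inv_mem hnC)
    · intro hy
      simpa [mul_assoc] using C.mul_mem (C.mul_mem (C.inv_mem hnC) hy) hnC
  have hncyc : ¬ IsCyclic ↥X.U := by
    intro hcyc
    have := Nat.le_of_dvd (by omega) (PGroups.elemAb_card_dvd_of_isCyclic X.hU)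
    rw [X.hU4] at this
    omega
  haveI := X.hU.1
  have hcop : (Nat.card ↥X.U).Coprime (Nat.card ↥W') := by
    rw [X.hU4, show (4 : ℕ) = 2 ^ 2 by norm_num]
    exact (Nat.prime_two.coprime_iff_not_dvd.2 fun h =>
      (Nat.not_even_iff_odd.2 hW'odd) (even_iff_two_dvd.2 h)).pow_left 2
  have hle : W' ≤ X.W := by
    rw [← Coprime.iSup_centralizer_eq hncyc hUW' hcop]
    refine iSup₂_le fun e he => ?_
    rcases eq_or_ne e X.z with rfl | hez
    · rw [hW'z]; exact (X.W_inf (hBS.trans X.S_le_M) hB h8 (hUB X.hzU) X.hz1).1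
    · have heo : orderOf e = 2 := orderOf_eq_prime (PGroups.elemAb_pow X.hU he.1) he.2
      refine le_trans (X.le_theta heo hzo (X.z_mem_opTwo huniq he.1 he.2) inf_le_right
        (Odd.of_dvd_nat hW'odd (Subgroup.card_dvd_of_le inf_le_left)) ?_ ?_)
        (X.W_inf (hBS.trans X.S_le_M) hB h8 (hUB he.1) he.2).1
      · exact Coprime.le_normalizer_inf (Subgroup.zpowers_le.2 (hUW' X.hzU))
          (Subgroup.zpowers_le.2 (Subgroup.le_normalizer
            (Subgroup.mem_centralizer_singleton_iff.2 (PGroups.elemAb_comm X.hU X.hzU he.1))))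
          (Subgroup.mem_zpowers X.z)
      · rw [← hW'z]
        exact inf_le_inf_right _ inf_le_left
  have heq : W' = X.W := Subgroup.eq_of_le_of_card_ge hle
    (Subgroup.card_map_of_injective (MulAut.conj n⁻¹).injective).ge
  simpa using inv_mem (Subgroup.mem_normalizer_iff_map_conj_eq.2 heq : n⁻¹ ∈ X.M)

/-- The centralizer of an involution of `S`, for a Sylow 2-subgroup in `S`. -/
theorem centralizer_le_of_sylIn {a : G} (ha : orderOf a = 2) (haS : a ∈ (X.S : Subgroup G))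
    (hT : IsSylIn ((X.S : Subgroup G) ⊓ Subgroup.centralizer ({a} : Set G))
      (Subgroup.centralizer ({a} : Set G)))
    {B : Subgroup G} (hBS : B ≤ (X.S : Subgroup G)) (hB : IsElementaryAbelian 2 B)
    (h8 : 8 ≤ Nat.card ↥B) (haB : a ∈ B) :
    Subgroup.centralizer ({a} : Set G) ≤ X.M := by
  haveI : Fact (Nat.Prime 2) := ⟨Nat.prime_two⟩
  set C := Subgroup.centralizer ({a} : Set G) with hC
  set T := (X.S : Subgroup G) ⊓ C with hTd
  have ha2 : a ^ 2 = 1 := by rw [← ha, pow_orderOf_eq_one]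
  have ha1 : a ≠ 1 := fun h => by rw [h, orderOf_one] at ha; omega
  by_cases hex : ∃ c ∈ X.U, c ≠ 1 ∧ c ≠ a ∧ ∀ s ∈ (X.S : Subgroup G), s * c = c * s
  swap
  · push Not at hex
    have hza : X.z = a := by
      by_contra h
      obtain ⟨s, hs, hsc⟩ := hex X.z X.hzU X.hz1 h
      exact hsc (X.hzc s hs)
    subst hza
    refine X.centralizer_z_le fun h => ?_
    obtain ⟨s, hs, hsc⟩ := hex X.u X.huU X.hu1 X.huz
    exact hsc (h s hs)
  obtain ⟨c, hcU, hc1, hca, hcS⟩ := hex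
  intro g hg
  refine sup_le (X.theta_le_M (hBS.trans X.S_le_M) hB h8 haB ha1) ?_
    (hT.le_core_sup_normalizer hg)
  rintro n ⟨-, hnP⟩
  have hc2 : c ^ 2 = 1 := PGroups.elemAb_pow X.hU hcU
  have hac : a * c = c * a := hcS a haS
  set E := Subgroup.zpowers a ⊔ Subgroup.zpowers c with hE
  have haT : a ∈ T := ⟨haS, Subgroup.mem_centralizer_singleton_iff.2 rfl⟩
  have hcT : c ∈ T := ⟨X.hUS hcU, Subgroup.mem_centralizer_singleton_iff.2 hac.symm⟩
  have hEc : E ≤ Subgroup.centralizer (T : Set G) :=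
    sup_le (Subgroup.zpowers_le.2 (Subgroup.mem_centralizer_iff.2 fun t ht =>
        Subgroup.mem_centralizer_singleton_iff.1 ht.2))
      (Subgroup.zpowers_le.2 (Subgroup.mem_centralizer_iff.2 fun t ht => hcS t ht.1))
  have hEel : IsElementaryAbelian 2 E ∧ 4 ≤ Nat.card ↥E := by
    have hcn : c ∉ Subgroup.zpowers a := by
      intro h
      obtain ⟨k, hk⟩ := Subgroup.mem_zpowers_iff.1 h
      have hz2 : a ^ (2 : ℤ) = 1 := by rw [zpow_two, ← pow_two, ha2]
      rcases Int.even_or_odd k with ⟨m, rfl⟩ | ⟨m, rfl⟩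
      · exact hc1 (by rw [← hk, ← two_mul, zpow_mul, hz2, one_zpow])
      · exact hca (by rw [← hk, zpow_add, zpow_mul, hz2, one_zpow, one_mul, zpow_one])
    obtain ⟨h1, h2⟩ := FTDeps.Row3110.card_ge_double (PGroups.elemAb_zpowers ha2) hc2 hcn
      fun b hb => by
        obtain ⟨k, rfl⟩ := Subgroup.mem_zpowers_iff.1 hb
        exact (show Commute a c from hac).zpow_left k
    rw [Nat.card_zpowers, ha] at h2
    exact ⟨h1, h2⟩
  have hEP : E ≤ T ⊓ opTwo C :=
    sup_le (Subgroup.zpowers_le.2 ⟨haT, hT.mem_opTwo_of_centralizes (X.hcon a ha) haT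
        fun t ht => (Subgroup.mem_centralizer_singleton_iff.1 ht.1.2).symm⟩)
      (Subgroup.zpowers_le.2 ⟨hcT, hT.mem_opTwo_of_centralizes (X.hcon a ha) hcT
        fun t ht => (hcS t ht.1.1).symm⟩)
  have hBT : B ≤ T := le_inf hBS fun b hb =>
    Subgroup.mem_centralizer_singleton_iff.2 (PGroups.elemAb_comm hB hb haB)
  have key : ∀ F : Subgroup G, F ≤ T → IsElementaryAbelian 2 F → 4 ≤ Nat.card ↥F →
      8 ≤ Nat.card ↥(F ⊔ E : Subgroup G) → vs F = X.W ∧ vs E = X.W := by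
    intro F hFT hF h4 hbig
    have hel : IsElementaryAbelian 2 (F ⊔ E) := (card_sup_ge hF hEel.1 fun f hf e he =>
      Subgroup.mem_centralizer_iff.1 (hEc he) f (hFT hf)).1
    have hle : F ⊔ E ≤ (X.S : Subgroup G) :=
      sup_le (hFT.trans inf_le_left) (hEP.trans (inf_le_left.trans inf_le_left))
    have hW := X.vs_eq_W hle hel hbig
    have hFT' := BenderDeps.Consumers.oddOrderSolvable.{u}
    exact ⟨(FTDeps.Row3110.valueSup_eq_of_le hFT' X.hL hel hbig le_sup_left h4).1.trans hW,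
      (FTDeps.Row3110.valueSup_eq_of_le hFT' X.hL hel hbig le_sup_right hEel.2).1.trans hW⟩
  have hvE : vs E = X.W :=
    (key B hBT hB (by omega) (h8.trans (Subgroup.card_le_of_le le_sup_left))).2
  set E' := E.map (MulAut.conj n).toMonoidHom with hE'
  have hcardE' : Nat.card ↥E' = Nat.card ↥E :=
    Subgroup.card_map_of_injective (MulAut.conj n).injective
  have hE'T : E' ≤ T := by
    rintro _ ⟨e, he, rfl⟩
    exact ((Subgroup.mem_normalizer_iff.1 hnP e).1 (hEP he)).1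
  have hE'el : IsElementaryAbelian 2 E' := PGroups.elemAb_conj n hEel.1
  have hvE' : vs E' = X.W := by
    by_cases hle : E ≤ E'
    · rw [← Subgroup.eq_of_le_of_card_ge hle hcardE'.le]; exact hvE
    · refine (key E' hE'T hE'el (hcardE'.symm ▸ hEel.2) ?_).1
      have := (card_sup_ge hE'el hEel.1 fun f hf e he =>
        Subgroup.mem_centralizer_iff.1 (hEc he) f (hE'T hf)).2 hle
      have := hEel.2
      omega
  rw [hE', ← vs_conj, hvE] at hvE'
  exact Subgroup.mem_normalizer_iff_map_conj_eq.2 hvE'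

/-- `M` contains the centralizer of an involution with 2-rank at least 3 in `M`. -/
theorem centralizer_le {a : G} (ha : orderOf a = 2) (haM : a ∈ X.M) {B : Subgroup G}
    (hBM : B ≤ X.M) (hB : IsElementaryAbelian 2 B) (h8 : 8 ≤ Nat.card ↥B)
    (hBa : ∀ b ∈ B, b * a = a * b) : Subgroup.centralizer ({a} : Set G) ≤ X.M := by
  haveI : Fact (Nat.Prime 2) := ⟨Nat.prime_two⟩
  have ha2 : a ^ 2 = 1 := by rw [← ha, pow_orderOf_eq_one]
  -- enlarge `B` to contain `a`
  obtain ⟨B', hB'M, hB', h8', haB'⟩ : ∃ B' : Subgroup G, B' ≤ X.M ∧ IsElementaryAbelian 2 B' ∧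
      8 ≤ Nat.card ↥B' ∧ a ∈ B' :=
    ⟨B ⊔ Subgroup.zpowers a, sup_le hBM (Subgroup.zpowers_le.2 haM),
      PGroups.elemAb_sup hB (PGroups.elemAb_zpowers ha2) (fun b hb y hy => by
        obtain ⟨k, rfl⟩ := Subgroup.mem_zpowers_iff.1 hy
        exact (show Commute b a from hBa b hb).zpow_right k),
      h8.trans (Subgroup.card_le_of_le le_sup_left), Subgroup.mem_sup_right (Subgroup.mem_zpowers a)⟩
  set C := Subgroup.centralizer ({a} : Set G) with hC
  have hB'C : B' ≤ C := fun b hb =>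
    Subgroup.mem_centralizer_singleton_iff.2 (PGroups.elemAb_comm hB' hb haB')
  obtain ⟨T, hT, hBT, hTM⟩ := exists_sylIn_le (C := C) (M := X.M) (PGroups.elemAb_isPGroup hB')
    hB'C hB'M fun T₀ _ hBT₀ hT₀M _ y _ hy =>
      X.mem_M hB'M hB' h8' fun b hb => hT₀M ((Subgroup.mem_normalizer_iff.1 hy b).1 (hBT₀ hb))
  obtain ⟨m, hm, hmT⟩ := X.exists_conj_S hT.isP hTM
  set a' := m * a * m⁻¹ with ha'
  set C' := Subgroup.centralizer ({a'} : Set G) with hC'
  have hTsub : T.map (MulAut.conj m).toMonoidHom ≤ (X.S : Subgroup G) ⊓ C' := by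
    refine le_inf hmT ?_
    rintro _ ⟨t, ht, rfl⟩
    exact mem_centralizer_conj (hT.le ht)
  have hback : ∀ {y : G}, y ∈ C' → m⁻¹ * y * m ∈ C := by
    intro y hy
    have := mem_centralizer_conj (g := m⁻¹) hy
    simpa [ha', mul_assoc] using this
  have hmax : IsSylIn ((X.S : Subgroup G) ⊓ C') C' := by
    refine ⟨inf_le_right, X.S.2.to_le inf_le_left, fun T' hT' hle hT'C => ?_⟩
    refine le_antisymm ?_ hle
    have h1 : T ≤ T'.map (MulAut.conj m⁻¹).toMonoidHom := fun t ht =>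
      ⟨m * t * m⁻¹, hle (hTsub ⟨t, ht, rfl⟩), by simp [mul_assoc]⟩
    have h2 : T'.map (MulAut.conj m⁻¹).toMonoidHom ≤ C := by
      rintro _ ⟨t, ht, rfl⟩
      simpa using hback (hT'C ht)
    have h3 := hT.max _ (hT'.map _) h1 h2
    intro t ht
    have h4 : m⁻¹ * t * m ∈ T := h3 ▸ ⟨t, ht, by simp⟩
    exact hTsub ⟨_, h4, by simp [mul_assoc]⟩
  have hle := X.centralizer_le_of_sylIn (a := a') ((orderOf_conj_eq m a).trans ha)
    (hmT ⟨a, hBT haB', rfl⟩) hmax
    (B := B'.map (MulAut.conj m).toMonoidHom) ((Subgroup.map_mono hBT).trans hmT)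
    (PGroups.elemAb_conj m hB')
    (h8'.trans (Subgroup.card_map_of_injective (MulAut.conj m).injective).ge) ⟨a, haB', rfl⟩
  intro y hy
  have := mul_mem (mul_mem (inv_mem hm) (hle (mem_centralizer_conj (g := m) hy))) hm
  simpa [mul_assoc] using this

end Ctx

end Cfsg.Agent.Lib.Dichotomy34
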